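import Mathlib

/-!
Groups of linear permutations of at most eight labels whose Sylow 2-subgroup has order 4 have a
nontrivial normal 2-subgroup.
-/

set_option autoImplicit false
set_option linter.style.haveILetI false
set_option linter.unusedSectionVars false
set_option maxRecDepth 100000

namespace Cfsg.Lib.MTwelveEight

open Subgroup

/-- Exclusive or of labels of eight bits. -/
def xr {k : ℕ} (hk : 0 < k) (a b : Fin k) : Fin k := ⟨(a.val ^^^ b.val) % k, Nat.mod_lt _ hk⟩

/-- The linear map with the given images of the three unit labels. -/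
def lin3 (a b c : Fin 8) (v : Fin 8) : Fin 8 :=
  ⟨((bif v.val % 2 == 1 then a.val else 0) ^^^ (bif v.val / 2 % 2 == 1 then b.val else 0) ^^^
    (bif v.val / 4 % 2 == 1 then c.val else 0)) % 8, Nat.mod_lt _ (by norm_num)⟩

/-- The linear map on four labels. -/
def lin2 (a b : Fin 4) (v : Fin 4) : Fin 4 :=
  ⟨((bif v.val % 2 == 1 then a.val else 0) ^^^ (bif v.val / 2 % 2 == 1 then b.val else 0)) % 4,
    Nat.mod_lt _ (by norm_num)⟩

/-- Iterates of a map of labels. -/
def itf {k : ℕ} (f : Fin k → Fin k) : ℕ → Fin k → Fin k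
  | 0 => id
  | n + 1 => fun v => f (itf f n v)

/-- Equality of maps of labels. -/
def eqf {k : ℕ} (f g : Fin k → Fin k) : Bool := (List.finRange k).all fun v => f v == g v

/-- Injectivity of a map of labels. -/
def injf {k : ℕ} (f : Fin k → Fin k) : Bool :=
  (List.finRange k).all fun v => (List.finRange k).all fun w => v == w || !(f v == f w)

/-- The bijective linear maps. -/
def linList : List (Fin 8 → Fin 8) :=
  (((List.finRange 8).flatMap fun a => (List.finRange 8).flatMap fun b =>
    (List.finRange 8).map fun c => lin3 a b c)).filter injf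

/-- Those of order three. -/
def threeList : List (Fin 8 → Fin 8) := linList.filter fun f => !eqf f id && eqf (itf f 3) id

/-- Those of order seven. -/
def sevenList : List (Fin 8 → Fin 8) := linList.filter fun f => !eqf f id && eqf (itf f 7) id

theorem lin_facts :
    linList.all (fun f => (!eqf (itf f 5) id || eqf f id) && (!eqf (itf f 9) id || eqf (itf f 3) id)) = true ∧
    threeList.all (fun f => threeList.all fun g =>
      !eqf (f ∘ g) (g ∘ f) || eqf g f || eqf g (itf f 2)) = true ∧
    sevenList.all (fun f => linList.all fun g => !eqf (g ∘ g) id || eqf g id ||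
      !((List.range 7).any fun i => eqf (g ∘ f) (itf f i ∘ g))) = true := by
  decide +kernel

theorem eqf_iff {k : ℕ} {f g : Fin k → Fin k} : eqf f g = true ↔ f = g := by
  simp [eqf, funext_iff]

theorem itf_perm {k : ℕ} (σ : Equiv.Perm (Fin k)) (n : ℕ) : itf σ n = ⇑(σ ^ n) := by
  induction n with
  | zero => rfl
  | succ n ih => funext v; rw [pow_succ', Equiv.Perm.mul_apply, ← ih]; rfl

theorem injf_of {k : ℕ} {f : Fin k → Fin k} (h : Function.Injective f) : injf f = true := by
  simp only [injf, List.all_eq_true, Bool.or_eq_true, beq_iff_eq, Bool.not_eq_true', beq_eq_false_iff_ne]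
  intro v _ w _
  by_cases e : v = w
  · exact Or.inl e
  · exact Or.inr fun e' => e (h e')

universe u

/-- A group of linear permutations of eight labels with Sylow 2-subgroups of order 4. -/
theorem exists_normal_two {A : Type u} [Group A] [Finite A] (ρ : A →* Equiv.Perm (Fin 8))
    (hρ : Function.Injective ρ) (hlin : ∀ x, ∃ a b c, ⇑(ρ x) = lin3 a b c) {j : ℕ} (hj : Odd j)
    (hcard : Nat.card A = 4 * j) : ∃ Y : Subgroup A, Y.Normal ∧ IsPGroup 2 Y ∧ Y ≠ ⊥ := by
  classical
  haveI : Fact (Nat.Prime 2) := ⟨Nat.prime_two⟩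
  haveI : Fact (Nat.Prime 3) := ⟨Nat.prime_three⟩
  haveI : Fact (Nat.Prime 5) := ⟨by norm_num⟩
  haveI : Fact (Nat.Prime 7) := ⟨by norm_num⟩
  obtain ⟨h59, h33, h72⟩ := lin_facts
  have hmem : ∀ x, ⇑(ρ x) ∈ linList := fun x => by
    obtain ⟨a, b, c, h⟩ := hlin x
    rw [linList, List.mem_filter]
    exact ⟨by rw [h]; simp, injf_of (ρ x).injective⟩
  have heq : ∀ x y : A, eqf ⇑(ρ x) ⇑(ρ y) = true ↔ x = y := fun x y => by
    rw [eqf_iff, Equiv.coe_fn_injective.eq_iff, hρ.eq_iff]
  have hone : ∀ x : A, eqf ⇑(ρ x) id = true ↔ x = 1 := fun x => by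
    rw [← heq x 1, map_one]; rfl
  have hit : ∀ (x : A) n, itf ⇑(ρ x) n = ⇑(ρ (x ^ n)) := fun x n => by rw [itf_perm, map_pow]
  have hpow : ∀ (x : A) n, eqf (itf ⇑(ρ x) n) id = true ↔ x ^ n = 1 := fun x n => by rw [hit, hone]
  simp only [List.all_eq_true, Bool.and_eq_true, Bool.or_eq_true, Bool.not_eq_true'] at h59 h33 h72
  have hsize : Nat.card A ∣ 40320 := by
    have h := card_dvd_of_injective ρ hρ
    rw [Nat.card_perm, Nat.card_fin] at h
    exact h
  have h5 : ¬ 5 ∣ Nat.card A := fun h => by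
    obtain ⟨x, hx⟩ := exists_prime_orderOf_dvd_card' 5 h
    rcases (h59 _ (hmem x)).1 with e | e
    · rw [← Bool.not_eq_true, hpow] at e
      exact e (hx ▸ pow_orderOf_eq_one x)
    · rw [(hone x).1 e, orderOf_one] at hx
      norm_num at hx
  have h9 : ¬ 9 ∣ Nat.card A := fun h => by
    obtain ⟨B, hB⟩ := Sylow.exists_subgroup_card_pow_prime 3 (show 3 ^ 2 ∣ Nat.card A from h)
    haveI := IsPGroup.isMulCommutative_of_card_eq_prime_sq (p := 3) (G := B) hB
    obtain ⟨⟨x, hxB⟩, hx⟩ := exists_prime_orderOf_dvd_card' (G := B) 3 (by rw [hB]; norm_num)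
    rw [orderOf_mk] at hx
    have hthree : ∀ y ∈ B, y ^ 3 = 1 := fun y hy => by
      have h9' : y ^ 9 = 1 := by
        have h := congrArg Subtype.val (pow_card_eq_one' (x := (⟨y, hy⟩ : B)))
        rw [hB] at h
        exact h
      rcases (h59 _ (hmem y)).2 with e | e
      · rw [← Bool.not_eq_true, hpow] at e; exact absurd h9' e
      · exact (hpow y 3).1 e
    have hT : ∀ y : A, y ^ 3 = 1 → y ≠ 1 → ⇑(ρ y) ∈ threeList := fun y hy hy1 => by
      rw [threeList, List.mem_filter]
      exact ⟨hmem y, by rw [Bool.and_eq_true, Bool.not_eq_true', ← Bool.not_eq_true, hone, hpow]; exact ⟨hy1, hy⟩⟩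
    have hx1 : x ≠ 1 := fun e => by rw [e, orderOf_one] at hx; norm_num at hx
    have hle : B ≤ zpowers x := fun y hy => by
      by_cases hy1 : y = 1
      · rw [hy1]; exact one_mem _
      have hc : y * x = x * y := congrArg Subtype.val (mul_comm' (⟨y, hy⟩ : B) ⟨x, hxB⟩)
      rcases h33 _ (hT x (hx ▸ pow_orderOf_eq_one x) hx1) _ (hT y (hthree y hy) hy1) with (e | e) | e
      · refine absurd ?_ ((Bool.not_eq_true _).symm ▸ e : ¬ _ = true)
        rw [eqf_iff, ← Equiv.Perm.coe_mul, ← Equiv.Perm.coe_mul, ← map_mul, ← map_mul, hc]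
      · rw [(heq y x).1 e]; exact mem_zpowers x
      · rw [hit, heq] at e
        rw [e]; exact npow_mem_zpowers x 2
    have := card_dvd_of_le hle
    rw [hB, Nat.card_zpowers, hx] at this
    norm_num at this
  obtain ⟨S⟩ : Nonempty (Sylow 2 A) := inferInstance
  have hj4 : j ∣ 63 := by
    rw [hcard] at hsize h5 h9
    have h1 : j ∣ 10080 := Nat.dvd_of_mul_dvd_mul_left (by norm_num : 0 < 4) (show 4 * j ∣ 4 * 10080 from hsize)
    have h2 : j.Coprime (2 ^ 5 * 5) := Nat.Coprime.mul_right (Nat.Coprime.pow_right 5 (Nat.coprime_two_right.2 hj))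
      ((Nat.Prime.coprime_iff_not_dvd (by norm_num)).2 fun h => h5 (h.mul_left 4)).symm
    exact h2.dvd_of_dvd_mul_left (show j ∣ 2 ^ 5 * 5 * 63 from h1)
  have h7 : ¬ 7 ∣ Nat.card A := fun h => by
    obtain ⟨R⟩ : Nonempty (Sylow 7 A) := inferInstance
    have hjd : j ∈ Nat.divisors 63 := Nat.mem_divisors.2 ⟨hj4, by norm_num⟩
    rw [show Nat.divisors 63 = {1, 3, 7, 9, 21, 63} by decide +kernel] at hjd
    simp only [Finset.mem_insert, Finset.mem_singleton] at hjd
    rw [hcard] at h h9
    have h21 : j = 7 ∨ j = 21 := by rcases hjd with e | e | e | e | e | e <;> rw [e] at h h9 <;> omega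
    have hR : Nat.card (R : Subgroup A) = 7 := by
      rw [R.card_eq_multiplicity, hcard]
      rcases h21 with rfl | rfl <;> decide +kernel
    have hn : Nat.card (Sylow 7 A) ∣ 12 := by
      have h1 := R.card_dvd_index
      have h2 := (R : Subgroup A).index_mul_card
      rw [hR, hcard] at h2
      rcases h21 with rfl | rfl
      · exact h1.trans (by rw [show (R : Subgroup A).index = 4 by omega]; norm_num)
      · exact h1.trans (by rw [show (R : Subgroup A).index = 12 by omega])
    have hmod : Nat.card (Sylow 7 A) % 7 = 1 := card_sylow_modEq_one 7 A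
    have hone7 : Nat.card (Sylow 7 A) = 1 := by
      have := Nat.le_of_dvd (by norm_num) hn
      interval_cases hs : Nat.card (Sylow 7 A) <;> omega
    haveI := (Nat.card_eq_one_iff_unique.1 hone7).1
    haveI hRn : (R : Subgroup A).Normal := R.normal_of_subsingleton
    obtain ⟨u, hu⟩ := exists_prime_orderOf_dvd_card' (G := A) 2 (by rw [hcard]; omega)
    obtain ⟨⟨x, hxR⟩, hx⟩ := exists_prime_orderOf_dvd_card' (G := (R : Subgroup A)) 7 (by rw [hR])
    rw [orderOf_mk] at hx
    have hx1 : x ≠ 1 := fun e => by rw [e, orderOf_one] at hx; norm_num at hx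
    have hzx : zpowers x = (R : Subgroup A) :=
      eq_of_le_of_card_ge (zpowers_le.2 hxR) (by rw [hR, Nat.card_zpowers, hx])
    have hm := hRn.conj_mem x hxR u
    rw [← hzx, mem_zpowers_iff_mem_range_orderOf, hx, Finset.mem_image] at hm
    obtain ⟨i, hi, hie⟩ := hm
    have hxs : ⇑(ρ x) ∈ sevenList := by
      rw [sevenList, List.mem_filter]
      exact ⟨hmem x, by rw [Bool.and_eq_true, Bool.not_eq_true', ← Bool.not_eq_true, hone, hpow]
                        exact ⟨hx1, hx ▸ pow_orderOf_eq_one x⟩⟩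
    rcases h72 _ hxs _ (hmem u) with (e | e) | e
    · rw [← Bool.not_eq_true] at e
      refine e ?_
      rw [eqf_iff, ← Equiv.Perm.coe_mul, ← map_mul, ← sq, ← hu, pow_orderOf_eq_one, map_one]
      rfl
    · rw [(hone u).1 e, orderOf_one] at hu
      norm_num at hu
    · rw [← Bool.not_eq_true, List.any_eq_true] at e
      refine e ⟨i, List.mem_range.2 (Finset.mem_range.1 hi), ?_⟩
      rw [hit, eqf_iff, ← Equiv.Perm.coe_mul, ← Equiv.Perm.coe_mul, ← map_mul, ← map_mul, hie,
        inv_mul_cancel_right]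
  have hj13 : j = 1 ∨ j = 3 := by
    have hjd : j ∈ Nat.divisors 63 := Nat.mem_divisors.2 ⟨hj4, by norm_num⟩
    rw [show Nat.divisors 63 = {1, 3, 7, 9, 21, 63} by decide +kernel] at hjd
    simp only [Finset.mem_insert, Finset.mem_singleton] at hjd
    rw [hcard] at h7 h9
    rcases hjd with e | e | e | e | e | e <;> rw [e] at h7 h9 ⊢ <;> omega
  have hS : Nat.card (S : Subgroup A) = 4 := by
    rw [S.card_eq_multiplicity, hcard]
    rcases hj13 with rfl | rfl <;> decide +kernel
  have hidx : (S : Subgroup A).index = j := by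
    have h := (S : Subgroup A).index_mul_card
    rw [hS, hcard] at h
    omega
  set K := (S : Subgroup A).normalCore with hK
  refine ⟨K, normalCore_normal _, S.2.to_le (normalCore_le _), fun hbot => ?_⟩
  have hdvd : Nat.card A ∣ (Nat.card (A ⧸ (S : Subgroup A))).factorial := by
    let φ := MulAction.toPermHom A (A ⧸ (S : Subgroup A))
    have hker : φ.ker = ⊥ := by rw [← hbot, hK, normalCore_eq_ker]
    have h := card_dvd_of_injective φ ((MonoidHom.ker_eq_bot_iff φ).1 hker)
    rwa [Nat.card_perm] at h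
  rw [← Subgroup.index, hidx, hcard] at hdvd
  rcases hj13 with rfl | rfl <;> norm_num [Nat.factorial] at hdvd

end Cfsg.Lib.MTwelveEight
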