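import Cfsg.Agent.Lib.MTwelveEight.Model
import Cfsg.Agent.Lib.MTwelveEight.Linear

/-!
The kernel-checked certificates: the subgroups through the central involution outside the chosen maximal
subgroup, and for each centric one the constraint on its automorphisms.
-/

set_option autoImplicit false
set_option linter.style.longLine false
set_option maxRecDepth 100000

namespace Cfsg.Lib.MTwelveEight

/-- Membership in a mask. -/
def mm (K : ℕ) (i : Fin 64) : Bool := Nat.testBit K i.val

/-- The members of a mask. -/
def membL (K : ℕ) : List (Fin 64) := (List.finRange 64).filter (mm K)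

/-- One closure step. -/
def cStep (t : Fin 7) (g : List (Fin 64)) (S : ℕ) : ℕ :=
  (membL S).foldl (fun T x => g.foldl (fun T' h => T' ||| 1 <<< (tMul t x h).val) T) S

/-- Bounded closure. -/
def cLo (t : Fin 7) (g : List (Fin 64)) : ℕ → ℕ → ℕ
  | 0, S => S
  | n + 1, S => let T := cStep t g S; bif T == S then S else cLo t g n T

/-- An entry of a certificate. -/
abbrev Entry : Type := ℕ × List ℕ × ℕ × ℕ × ℕ × ℕ

/-- The mask of an entry. -/
def eMask (e : Entry) : ℕ := e.1

/-- The generators of an entry. -/
def eGens (e : Entry) : List (Fin 64) := e.2.1.map fun g => ⟨g % 64, Nat.mod_lt _ (by norm_num)⟩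

/-- The witness of an entry. -/
def eWit (e : Entry) : Fin 64 := ⟨e.2.2.2.1 % 64, Nat.mod_lt _ (by norm_num)⟩

/-- The rank of an entry. -/
def eRank (e : Entry) : ℕ := e.2.2.1

/-- The kind of an entry. -/
def eKind (e : Entry) : ℕ := e.2.2.2.2.2

/-- The labelling of an entry. -/
def eLab (e : Entry) (k : ℕ) (hk : 0 < k) (i : Fin 64) : Fin k :=
  ⟨((e.2.2.2.2.1 >>> (3 * i.val)) &&& 7) % k, Nat.mod_lt _ hk⟩

/-- The least element of a coset. -/
def cosetRep (t : Fin 7) (K : ℕ) (y : Fin 64) : Fin 64 :=
  (membL K).foldl (fun m k => if tMul t k y < m then tMul t k y else m) y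

/-- The closure conditions. -/
def chkCover (t : Fin 7) (M : ℕ) (L : List Entry) : Bool :=
  ((List.finRange 64).all fun x => mm M x || L.any fun e => eMask e == cLo t [16, x] 20 1) &&
    L.all fun e => mm (eMask e) 0 && (eGens e).all (mm (eMask e)) &&
      (List.finRange 64).all fun y => mm (eMask e) y ||
        (let y0 := cosetRep t (eMask e) y
         !mm (eMask e) y0 && decide (y0 ≤ y) &&
           (y0 != y || L.any fun e' => eMask e' == cLo t (eGens e ++ [y]) 20 1 && mm (eMask e') y &&
             (membL (eMask e)).all (mm (eMask e'))))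

/-- An invariant of a member. -/
def key (t : Fin 7) (K : ℕ) (x : Fin 64) : ℕ :=
  ((((Finset.univ.filter fun q : Fin 64 => mm K q && tMul t x q == tMul t q x).card * 64 +
      (Finset.univ.filter fun q : Fin 64 => mm K q && tMul t q q == x).card) * 128 +
    (Finset.univ.filter fun q : Fin 64 => mm K q && tMul t q q == tMul t x x).card * 2 +
      (bif tMul t x x == 0 then 1 else 0)) * 2 +
    (bif tMul t (tMul t x x) (tMul t x x) == 0 then 1 else 0))

/-- The invariant of a label. -/
def sigv (t : Fin 7) (K : ℕ) {k : ℕ} (lab : Fin 64 → Fin k) (v : Fin k) : ℕ :=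
  ∑ x ∈ Finset.univ.filter (fun x : Fin 64 => mm K x && lab x == v), key t K x ^ 2

/-- The labelling conditions. -/
def chkLab (t : Fin 7) (K : ℕ) {k : ℕ} (hk : 0 < k) (lab : Fin 64 → Fin k) : Bool :=
  ((List.finRange k).all fun v => (membL K).any fun x => lab x == v) &&
    ((membL K).all fun x => (membL K).all fun y => lab (tMul t x y) == xr hk (lab x) (lab y)) &&
    ((membL K).all fun x => !(lab x).val == 0 ||
      (membL K).any fun a => (membL K).any fun b => tMul t (tMul t a a) (tMul t b b) == x) &&
    (lab 0).val == 0

/-- Whether `h` normalises the mask. -/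
def nrm (t : Fin 7) (K : ℕ) (h : Fin 64) : Bool :=
  let Kh := (membL K).foldl (fun T x => T ||| 1 <<< (tMul t x h).val) 0
  (membL K).all fun q => Nat.testBit Kh (tMul t h q).val

/-- The maps allowed by the invariant. -/
def okMaps (t : Fin 7) (K : ℕ) {k : ℕ} (lab : Fin 64 → Fin k) (C : List (Fin k → Fin k)) : List (Fin k → Fin k) :=
  let s := (List.finRange k).map (sigv t K lab)
  C.filter fun f => (List.finRange k).all fun v => s.getD (f v).val 0 == s.getD v.val 0

/-- The condition on a centric entry. -/
def chkKind (t : Fin 7) (M K kind : ℕ) {k : ℕ} (hk : 0 < k) (lab : Fin 64 → Fin k) (C : List (Fin k → Fin k)) : Bool :=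
  chkLab t K hk lab &&
  if kind = 1 then
    ((membL K).all fun x => (membL K).all fun y => !(lab x == lab y) || mm M x == mm M y) &&
      (okMaps t K lab C).all fun f => (membL K).all fun x => (membL K).all fun y =>
        !(f (lab x) == lab y) || mm M x == mm M y
  else if kind = 2 then
    (okMaps t K lab C).all fun f => ([3, 5, 7] : List ℕ).all fun p => !eqf (itf f p) id || eqf f id
  else decide (4 ≤ k) && ((List.finRange 64).filter (nrm t K)).length == 4 * (membL K).length

/-- The linear maps on two labels. -/
def cand1 : List (Fin 2 → Fin 2) := [id]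

/-- The linear maps on four labels. -/
def cand2 : List (Fin 4 → Fin 4) :=
  ((List.finRange 4).flatMap fun a => (List.finRange 4).map fun b => lin2 a b).filter injf

/-- The condition on an entry. -/
def chkEntry (t : Fin 7) (M : ℕ) (e : Entry) : Bool :=
  match eRank e with
  | 0 => !mm (eMask e) (eWit e) &&
      (membL (eMask e)).all fun q => tMul t (eWit e) q == tMul t q (eWit e)
  | 1 => chkKind t M (eMask e) (eKind e) (by norm_num) (eLab e 2 (by norm_num)) cand1
  | 2 => chkKind t M (eMask e) (eKind e) (by norm_num) (eLab e 4 (by norm_num)) cand2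
  | _ => chkKind t M (eMask e) (eKind e) (by norm_num) (eLab e 8 (by norm_num)) linList

/-- The conditions on the maximal subgroup and the central involution. -/
def chkMax (t : Fin 7) (M : ℕ) : Bool :=
  mm M 0 && ((List.finRange 64).any fun i => !mm M i) &&
    ((List.finRange 64).all fun i => (List.finRange 64).all fun j => mm M (tMul t i j) == (mm M i == mm M j)) &&
    ((List.finRange 64).all fun i => tMul t 16 i == tMul t i 16)

theorem max_ok : ∀ t : Fin 7, t ≠ 0 → chkMax t (Table.maxMask t.val) = true := by decide +kernel

set_option maxHeartbeats 0 in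
theorem cover_ok1 : chkCover 1 (Table.maxMask 1) (Table.cert 1) = true := by decide +kernel

set_option maxHeartbeats 0 in
theorem cover_ok2 : chkCover 2 (Table.maxMask 2) (Table.cert 2) = true := by decide +kernel

set_option maxHeartbeats 0 in
theorem cover_ok3 : chkCover 3 (Table.maxMask 3) (Table.cert 3) = true := by decide +kernel

set_option maxHeartbeats 0 in
theorem cover_ok4 : chkCover 4 (Table.maxMask 4) (Table.cert 4) = true := by decide +kernel

set_option maxHeartbeats 0 in
theorem cover_ok5 : chkCover 5 (Table.maxMask 5) (Table.cert 5) = true := by decide +kernel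

set_option maxHeartbeats 0 in
theorem cover_ok6 : chkCover 6 (Table.maxMask 6) (Table.cert 6) = true := by decide +kernel

set_option maxHeartbeats 0 in
theorem entries_ok1 : (Table.cert 1).all (chkEntry 1 (Table.maxMask 1)) = true := by decide +kernel

set_option maxHeartbeats 0 in
theorem entries_ok2 : (Table.cert 2).all (chkEntry 2 (Table.maxMask 2)) = true := by decide +kernel

set_option maxHeartbeats 0 in
theorem entries_ok3 : (Table.cert 3).all (chkEntry 3 (Table.maxMask 3)) = true := by decide +kernel

set_option maxHeartbeats 0 in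
theorem entries_ok4 : (Table.cert 4).all (chkEntry 4 (Table.maxMask 4)) = true := by decide +kernel

set_option maxHeartbeats 0 in
theorem entries_ok5 : (Table.cert 5).all (chkEntry 5 (Table.maxMask 5)) = true := by decide +kernel

set_option maxHeartbeats 0 in
theorem entries_ok6 : (Table.cert 6).all (chkEntry 6 (Table.maxMask 6)) = true := by decide +kernel

theorem cover_ok (t : Fin 7) (h : t ≠ 0) : chkCover t (Table.maxMask t.val) (Table.cert t.val) = true := by
  fin_cases t
  exacts [absurd rfl h, cover_ok1, cover_ok2, cover_ok3, cover_ok4, cover_ok5, cover_ok6]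

theorem entries_ok (t : Fin 7) (h : t ≠ 0) :
    (Table.cert t.val).all (chkEntry t (Table.maxMask t.val)) = true := by
  fin_cases t
  exacts [absurd rfl h, entries_ok1, entries_ok2, entries_ok3, entries_ok4, entries_ok5, entries_ok6]

end Cfsg.Lib.MTwelveEight
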