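import Cfsg.Agent.Lib.MTwelveEight.Model

/-!
A Sylow 2-subgroup of order 64 with a self-centralising element of order 8 conjugate to its odd powers
carries one of the seven tables.
-/

set_option autoImplicit false
set_option linter.style.haveILetI false
set_option linter.unusedSectionVars false
set_option maxRecDepth 100000

namespace Cfsg.Lib.MTwelveEight

open Subgroup

universe u

/-- A subgroup carrying table `t`. -/
structure TModel {G : Type u} [Group G] (P : Subgroup G) (t : Fin 7) where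
  /-- the elements -/
  a : Fin 64 → G
  inj : Function.Injective a
  mul : ∀ i j, a (tMul t i j) = a i * a j
  mem_iff : ∀ g, g ∈ P ↔ ∃ i, a i = g

theorem tMul_assoc (t : Fin 7) (i l p : Fin 64) : tMul t (tMul t i l) p = tMul t i (tMul t l p) := by
  obtain ⟨n, hn⟩ : ∃ n, (p : ℕ) = n := ⟨_, rfl⟩
  induction n using Nat.strong_induction_on generalizing p with
  | _ n ih =>
    by_cases hp : p = 0
    · rw [hp, ((table_facts t).1 _).1, ((table_facts t).1 _).1]
    · obtain ⟨g, q, hq, rfl⟩ := (table_facts t).2.2 p hp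
      rw [← (table_facts t).2.1 (tMul t i l) q g, ih q (hn ▸ hq) q rfl, (table_facts t).2.1,
        (table_facts t).2.1]

variable {G : Type u} [Group G]

/-- The element with the given index. -/
def nu (f x y : G) (i : Fin 32) : G := f ^ (i.val / 4) * x ^ (i.val % 2) * y ^ (i.val / 2 % 2)

theorem pow_mod_eq {f : G} {n : ℕ} (hf : f ^ n = 1) (k : ℕ) : f ^ (k % n) = f ^ k := by
  conv_rhs => rw [← Nat.mod_add_div k n, pow_add, pow_mul, hf, one_pow, mul_one]

theorem nu_enc {f x y : G} (hf : f ^ 8 = 1) (hx : x ^ 2 = 1) (hy : y ^ 2 = 1) (a j k : ℕ) :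
    nu f x y (enc a j k) = f ^ a * x ^ j * y ^ k := by
  have hv : ((enc a j k : Fin 32) : ℕ) = 4 * (a % 8) + j % 2 + 2 * (k % 2) := by
    simp only [enc]
    omega
  rw [nu, hv]
  rw [show (4 * (a % 8) + j % 2 + 2 * (k % 2)) / 4 = a % 8 by omega,
    show (4 * (a % 8) + j % 2 + 2 * (k % 2)) % 2 = j % 2 by omega,
    show (4 * (a % 8) + j % 2 + 2 * (k % 2)) / 2 % 2 = k % 2 by omega,
    pow_mod_eq hf, pow_mod_eq hx, pow_mod_eq hy]

/-- Relations of the normal subgroup. -/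
structure Rel (f x y : G) (c : Fin 2) : Prop where
  hf : f ^ 8 = 1
  hx : x ^ 2 = 1
  hy : y ^ 2 = 1
  xf : x * f = f ^ 3 * x
  yf : y * f = f ^ 5 * y
  yx : y * x = f ^ (4 * c.val) * x * y

namespace Rel

variable {f x y : G} {c : Fin 2} (R : Rel f x y c)
include R

theorem nu_gen (i : Fin 32) : nu f x y (nMul c i 4) = nu f x y i * f ∧
    nu f x y (nMul c i 1) = nu f x y i * x ∧ nu f x y (nMul c i 2) = nu f x y i * y := by
  have hxf : ∀ n, x * f ^ n = f ^ (3 * n) * x := by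
    intro n
    induction n with
    | zero => simp
    | succ n ih => rw [pow_succ, ← mul_assoc, ih, mul_assoc, R.xf, ← mul_assoc, ← pow_add, Nat.mul_succ]
  refine ⟨?_, ?_, ?_⟩
  all_goals simp only [nMul, show ((4 : Fin 32) : ℕ) = 4 from rfl, show ((1 : Fin 32) : ℕ) = 1 from rfl,
      show ((2 : Fin 32) : ℕ) = 2 from rfl, nu_enc R.hf R.hx R.hy]
  all_goals rw [nu]
  all_goals rcases Nat.mod_two_eq_zero_or_one i.val with hj | hj
  all_goals rcases Nat.mod_two_eq_zero_or_one (i.val / 2) with hk | hk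
  all_goals simp only [hj, hk, pow_zero, pow_one, mul_one, one_mul, mul_zero, add_zero, zero_add,
      Nat.reduceDiv, Nat.reduceMod, Nat.reduceMul, Nat.reduceAdd]
  · rw [pow_succ]
  · rw [mul_assoc (f ^ (i.val / 4)) y, R.yf, pow_add]
    group
  · rw [mul_assoc (f ^ (i.val / 4)) x, R.xf, pow_add]
    group
  · rw [mul_assoc (f ^ (i.val / 4) * x) y, R.yf, ← mul_assoc, mul_assoc (f ^ (i.val / 4)) x, hxf, pow_add]
    group
  · rw [mul_assoc (f ^ (i.val / 4)) y, R.yx, pow_add]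
    group
  · rw [mul_assoc (f ^ (i.val / 4)) x, ← sq, R.hx]
  · have h4 : f ^ (3 * (4 * c.val)) = f ^ (4 * c.val) := by
      rw [show 3 * (4 * c.val) = 8 * c.val + 4 * c.val by ring, pow_add, pow_mul, R.hf, one_pow, one_mul]
    rw [mul_assoc (f ^ (i.val / 4) * x) y, R.yx, ← mul_assoc, ← mul_assoc, mul_assoc (f ^ (i.val / 4)) x,
      hxf, h4, ← mul_assoc, ← pow_add, mul_assoc (f ^ _) x x, ← sq, R.hx]
  · rw [mul_assoc, ← sq, R.hy]
  · rw [mul_assoc (f ^ (i.val / 4) * x) y, ← sq, R.hy]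

theorem nu_zero : nu f x y 0 = 1 := by simp [nu]

theorem nu_mul (i l : Fin 32) : nu f x y (nMul c i l) = nu f x y i * nu f x y l := by
  obtain ⟨n, hn⟩ : ∃ n, (l : ℕ) = n := ⟨_, rfl⟩
  induction n using Nat.strong_induction_on generalizing l with
  | _ n ih =>
    by_cases hl : l = 0
    · rw [hl, ((n_facts c).1 i).1, R.nu_zero, mul_one]
    · obtain ⟨g, hg, q, hq, rfl⟩ := (n_facts c).2.2 l hl
      rw [← (n_facts c).2.1 i q g hg]
      simp only [List.mem_cons, List.not_mem_nil, or_false] at hg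
      rcases hg with rfl | rfl | rfl
      · rw [(R.nu_gen _).1, ih q (hn ▸ hq) q rfl, (R.nu_gen q).1, mul_assoc]
      · rw [(R.nu_gen _).2.1, ih q (hn ▸ hq) q rfl, (R.nu_gen q).2.1, mul_assoc]
      · rw [(R.nu_gen _).2.2, ih q (hn ▸ hq) q rfl, (R.nu_gen q).2.2, mul_assoc]

theorem nu_pow (i : Fin 32) (n : ℕ) : nu f x y (nPow c i n) = nu f x y i ^ n := by
  induction n with
  | zero => rw [nPow, R.nu_zero, pow_zero]
  | succ n ih => rw [nPow, R.nu_mul, ih, pow_succ']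

end Rel

theorem nu_four (f x y : G) : nu f x y 4 = f ∧ nu f x y 1 = x ∧ nu f x y 2 = y := by
  simp [nu, show ((4 : Fin 32) : ℕ) = 4 from rfl, show ((1 : Fin 32) : ℕ) = 1 from rfl,
    show ((2 : Fin 32) : ℕ) = 2 from rfl]

/-- The triple `f`, `x`, `y`. -/
theorem exists_rel {P : Subgroup G} {f : G} (hfP : f ∈ P) (hf : orderOf f = 8)
    (hself : ∀ x ∈ P, x * f = f * x → x ∈ zpowers f)
    (hodd : ∀ k ∈ ({3, 5, 7} : Set ℕ), ∃ x ∈ P, x * f * x⁻¹ = f ^ k) :
    ∃ x ∈ P, ∃ y ∈ P, ∃ c : Fin 2, Rel f x y c := by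
  have h8 : f ^ 8 = 1 := hf ▸ pow_orderOf_eq_one f
  have key : ∀ {k : ℕ} {v : G}, v ∈ P → v * f * v⁻¹ = f ^ k → k * k % 8 = 1 →
      ∃ a, a < 8 ∧ v * v = f ^ a ∧ k * a % 8 = a := by
    intro k v hv hvf hk
    have hpow : ∀ n, v * f ^ n * v⁻¹ = f ^ (k * n) := fun n => by rw [← conj_pow, hvf, ← pow_mul]
    have hvv : v * v * f * (v * v)⁻¹ = f := by
      calc v * v * f * (v * v)⁻¹ = v * (v * f * v⁻¹) * v⁻¹ := by group
        _ = f := by rw [hvf, hpow, ← pow_mod_eq h8, hk, pow_one]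
    obtain ⟨z, hz⟩ := mem_zpowers_iff.1 (hself _ (mul_mem hv hv) (mul_inv_eq_iff_eq_mul.1 hvv))
    obtain ⟨a, ha, haz⟩ : ∃ a : ℕ, a < 8 ∧ f ^ a = v * v := by
      refine ⟨(z % 8).toNat, by omega, ?_⟩
      rw [← hz, ← zpow_natCast, Int.toNat_of_nonneg (by omega), ← zpow_mod_orderOf f z, hf]
      rfl
    refine ⟨a, ha, haz.symm, ?_⟩
    have h := hpow a
    rw [haz, show v * (v * v) * v⁻¹ = v * v by group, ← haz, pow_inj_mod, hf, Nat.mod_eq_of_lt ha] at h
    omega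
  obtain ⟨x₀, hx₀, hx₀f⟩ := hodd 3 (by simp)
  obtain ⟨y₀, hy₀, hy₀f⟩ := hodd 5 (by simp)
  have hxf₀ : x₀ * f = f ^ 3 * x₀ := mul_inv_eq_iff_eq_mul.1 hx₀f
  have hyf₀ : y₀ * f = f ^ 5 * y₀ := mul_inv_eq_iff_eq_mul.1 hy₀f
  obtain ⟨a, ha, hxx, ha3⟩ := key hx₀ hx₀f (by norm_num)
  obtain ⟨b, hb, hyy, hb5⟩ := key hy₀ hy₀f (by norm_num)
  obtain ⟨x, hxP, hxf, hx2⟩ : ∃ x ∈ P, x * f = f ^ 3 * x ∧ x ^ 2 = 1 := by
    rcases (show a = 0 ∨ a = 4 by omega) with rfl | rfl
    · exact ⟨x₀, hx₀, hxf₀, by rw [sq, hxx, pow_zero]⟩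
    · refine ⟨x₀ * f, mul_mem hx₀ hfP, by rw [← mul_assoc, ← hxf₀], ?_⟩
      calc (x₀ * f) ^ 2 = f ^ 3 * x₀ * (x₀ * f) := by rw [sq]; nth_rw 1 [hxf₀]
        _ = f ^ 3 * (x₀ * x₀) * f := by group
        _ = f ^ 8 := by rw [hxx]; group
        _ = 1 := h8
  have hyn : ∀ n, y₀ * f ^ n = f ^ (5 * n) * y₀ := by
    intro n
    induction n with
    | zero => simp
    | succ n ih => rw [pow_succ, ← mul_assoc, ih, mul_assoc, hyf₀, ← mul_assoc, ← pow_add, Nat.mul_succ]
  obtain ⟨s, hs⟩ : ∃ s, b = 2 * s := ⟨b / 2, by omega⟩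
  obtain ⟨y, hyP, hyf, hy2⟩ : ∃ y ∈ P, y * f = f ^ 5 * y ∧ y ^ 2 = 1 := by
    refine ⟨y₀ * f ^ s, mul_mem hy₀ (pow_mem hfP s), ?_, ?_⟩
    · rw [mul_assoc, ← pow_succ, pow_succ', ← mul_assoc, hyf₀, mul_assoc]
    · calc (y₀ * f ^ s) ^ 2 = y₀ * f ^ s * y₀ * f ^ s := by rw [sq]; simp only [mul_assoc]
        _ = f ^ (5 * s) * (y₀ * y₀) * f ^ s := by rw [hyn]; group
        _ = (f ^ 8) ^ s := by rw [hyy, hs, ← pow_add, ← pow_add, ← pow_mul]; congr 1; ring
        _ = 1 := by rw [h8, one_pow]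
  have hxy : x * y * f * (x * y)⁻¹ = f ^ 7 := by
    calc x * y * f * (x * y)⁻¹ = x * (y * f) * y⁻¹ * x⁻¹ := by group
      _ = (x * f * x⁻¹) ^ 5 := by rw [hyf, conj_pow]; group
      _ = f ^ 8 * f ^ 7 := by rw [hxf]; group
      _ = f ^ 7 := by rw [h8, one_mul]
  obtain ⟨d, hd, hdd, hd7⟩ := key (mul_mem hxP hyP) hxy (by norm_num)
  refine ⟨x, hxP, y, hyP, ⟨d / 4 % 2, Nat.mod_lt _ (by norm_num)⟩, ⟨h8, hx2, hy2, hxf, hyf, ?_⟩⟩
  have hxn : ∀ n, x * f ^ n = f ^ (3 * n) * x := by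
    intro n
    induction n with
    | zero => simp
    | succ n ih => rw [pow_succ, ← mul_assoc, ih, mul_assoc, hxf, ← mul_assoc, ← pow_add, Nat.mul_succ]
  show y * x = f ^ (4 * (d / 4 % 2)) * x * y
  rw [show 4 * (d / 4 % 2) = d by omega]
  calc y * x = x⁻¹ * (x * y * (x * y)) * y⁻¹ := by group
    _ = x * f ^ d * y := by
        rw [hdd, inv_eq_of_mul_eq_one_right (show x * x = 1 by rw [← sq, hx2]),
          inv_eq_of_mul_eq_one_right (show y * y = 1 by rw [← sq, hy2])]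
    _ = f ^ d * x * y := by
        rw [hxn, ← pow_mod_eq h8 (3 * d), show 3 * d % 8 = d by omega]

theorem n_inverse : ∀ c : Fin 2, (∀ i : Fin 32, ∃ j : Fin 32, nMul c j i = 0) ∧
    ∀ j i l : Fin 32, nMul c j i = 0 → nMul c j l = 0 → l = i := by
  decide +kernel

theorem next_mk (c : Fin 2) (af ax ay n m : Fin 32) :
    (next c af ax ay n 0 (mk64 m false) = mk64 (nMul c m 4) false ∧
      next c af ax ay n 1 (mk64 m false) = mk64 (nMul c m 1) false ∧
      next c af ax ay n 2 (mk64 m false) = mk64 (nMul c m 2) false ∧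
      next c af ax ay n 3 (mk64 m false) = mk64 m true) ∧
    (next c af ax ay n 0 (mk64 m true) = mk64 (nMul c m af) true ∧
      next c af ax ay n 1 (mk64 m true) = mk64 (nMul c m ax) true ∧
      next c af ax ay n 2 (mk64 m true) = mk64 (nMul c m ay) true ∧
      next c af ax ay n 3 (mk64 m true) = mk64 (nMul c m n) false) := by
  have e : ∀ l, (⟨(mk64 m l).val % 32, Nat.mod_lt _ (by norm_num)⟩ : Fin 32) = m := fun l =>
    Fin.ext (by cases l <;> simp [mk64] <;> omega)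
  have h1 : Nat.blt (mk64 m false).val 32 = true := Nat.ble_eq_true_of_le (by simp [mk64])
  have h2 : Nat.blt (mk64 m true).val 32 = false := by
    rw [Bool.eq_false_iff]; intro h; simp [mk64, Nat.blt_eq] at h
  refine ⟨⟨?_, ?_, ?_, ?_⟩, ⟨?_, ?_, ?_, ?_⟩⟩ <;> simp [next, e, h1, h2]

theorem exists_of_testBit {α : Type*} (σ : α → ℕ) (j : ℕ) : ∀ (L : List α) (s : ℕ),
    Nat.testBit (L.foldl (fun s i => s ||| (1 <<< σ i)) s) j = true → Nat.testBit s j = true ∨ ∃ i ∈ L, σ i = j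
  | [], s, h => Or.inl h
  | i :: L, s, h => by
      rcases exists_of_testBit σ j L _ h with h' | ⟨k, hk, e⟩
      · rw [Nat.testBit_or, Bool.or_eq_true] at h'
        rcases h' with h' | h'
        · exact Or.inl h'
        · rw [Nat.one_shiftLeft, Nat.testBit_two_pow] at h'
          exact Or.inr ⟨i, List.mem_cons_self, by simpa using h'⟩
      · exact Or.inr ⟨k, List.mem_cons_of_mem _ hk, e⟩

/-- One of the seven tables. -/
theorem exists_model [Finite G] {P : Subgroup G} (hP : Nat.card P = 64) {f : G} (hfP : f ∈ P)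
    (hf : orderOf f = 8) (hself : ∀ x ∈ P, x * f = f * x → x ∈ zpowers f)
    (hodd : ∀ k ∈ ({3, 5, 7} : Set ℕ), ∃ x ∈ P, x * f * x⁻¹ = f ^ k) :
    ∃ t : Fin 7, Nonempty (TModel P t) := by
  classical
  obtain ⟨x, hxP, y, hyP, c, R⟩ := exists_rel hfP hf hself hodd
  set ν := nu f x y with hν
  have hνP : ∀ i, ν i ∈ P := fun i => mul_mem (mul_mem (pow_mem hfP _) (pow_mem hxP _)) (pow_mem hyP _)
  have hxn : ∀ n, x * f ^ n * x⁻¹ = f ^ (3 * n) := fun n => by
    rw [← conj_pow, R.xf, mul_inv_cancel_right, ← pow_mul]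
  have hyn : ∀ n, y * f ^ n * y⁻¹ = f ^ (5 * n) := fun n => by
    rw [← conj_pow, R.yf, mul_inv_cancel_right, ← pow_mul]
  have hconj : ∀ i : Fin 32, ν i * f * (ν i)⁻¹ = f ^ (3 ^ (i.val % 2) * 5 ^ (i.val / 2 % 2)) := fun i => by
    rw [hν, nu]
    rcases Nat.mod_two_eq_zero_or_one i.val with hj | hj <;>
      rcases Nat.mod_two_eq_zero_or_one (i.val / 2) with hk | hk <;>
      simp only [hj, hk, pow_zero, pow_one, mul_one]
    · group
    · calc f ^ (i.val / 4) * y * f * (f ^ (i.val / 4) * y)⁻¹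
          = f ^ (i.val / 4) * (y * f ^ 1 * y⁻¹) * (f ^ (i.val / 4))⁻¹ := by group
        _ = f ^ (1 * 5) := by rw [hyn]; group
    · calc f ^ (i.val / 4) * x * f * (f ^ (i.val / 4) * x)⁻¹
          = f ^ (i.val / 4) * (x * f ^ 1 * x⁻¹) * (f ^ (i.val / 4))⁻¹ := by group
        _ = f ^ (3 * 1) := by rw [hxn]; group
    · calc f ^ (i.val / 4) * x * y * f * (f ^ (i.val / 4) * x * y)⁻¹
          = f ^ (i.val / 4) * (x * (y * f ^ 1 * y⁻¹) * x⁻¹) * (f ^ (i.val / 4))⁻¹ := by group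
        _ = f ^ (3 * 5) := by rw [hyn, hxn]; group
  have hker : ∀ i, ν i = 1 → i = 0 := by
    intro i hi
    have h1 := hconj i
    rw [hi, one_mul, inv_one, mul_one] at h1
    nth_rw 1 [← pow_one f] at h1
    rw [pow_inj_mod, hf] at h1
    have hjk : i.val % 2 = 0 ∧ i.val / 2 % 2 = 0 := by
      rcases Nat.mod_two_eq_zero_or_one i.val with hj | hj <;>
        rcases Nat.mod_two_eq_zero_or_one (i.val / 2) with hk | hk <;> rw [hj, hk] at h1 <;> norm_num at h1
      exact ⟨hj, hk⟩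
    rw [hν, nu, hjk.1, hjk.2, pow_zero, pow_zero, mul_one, mul_one, ← orderOf_dvd_iff_pow_eq_one, hf] at hi
    have := Nat.eq_zero_of_dvd_of_lt hi (by omega)
    exact Fin.ext (by show i.val = 0; omega)
  have hνi : Function.Injective ν := fun i l h => by
    obtain ⟨j, hj⟩ := (n_inverse c).1 i
    refine ((n_inverse c).2 j i l hj (hker _ ?_)).symm
    rw [hν, R.nu_mul, ← hν, ← h, hν, ← R.nu_mul, hj, R.nu_zero]
  let N : Subgroup G :=
    { carrier := Set.range ν
      one_mem' := ⟨0, R.nu_zero⟩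
      mul_mem' := by rintro _ _ ⟨i, rfl⟩ ⟨l, rfl⟩; exact ⟨nMul c i l, R.nu_mul i l⟩
      inv_mem' := by
        rintro _ ⟨i, rfl⟩
        obtain ⟨j, hj⟩ := (n_inverse c).1 i
        exact ⟨j, eq_inv_of_mul_eq_one_left (by rw [hν, ← R.nu_mul, hj, R.nu_zero])⟩ }
  have hN : Nat.card N = 32 := (Nat.card_range_of_injective hνi).trans (Nat.card_fin 32)
  have hNP : N ≤ P := by rintro _ ⟨i, rfl⟩; exact hνP i
  have hidx : (N.subgroupOf P).index = 2 := by
    have h := (N.subgroupOf P).index_mul_card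
    rw [Nat.card_congr (subgroupOfEquivOfLe hNP).toEquiv, hN, hP] at h
    omega
  haveI hnorm := normal_of_index_eq_two hidx
  have hnorm' : ∀ v ∈ P, ∀ w ∈ N, v * w * v⁻¹ ∈ N := fun v hv w hw =>
    mem_subgroupOf.1 (hnorm.conj_mem ⟨w, hNP hw⟩ (mem_subgroupOf.2 hw) ⟨v, hv⟩)
  obtain ⟨g, hgP, hgN⟩ : ∃ g ∈ P, g ∉ N := by
    by_contra hall
    push Not at hall
    have := card_dvd_of_le hall
    rw [hP, hN] at this
    norm_num at this
  obtain ⟨h4, h1, h2⟩ := nu_four f x y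
  rw [← hν] at h4 h1 h2
  obtain ⟨af, haf⟩ : g * f * g⁻¹ ∈ N := hnorm' g hgP f ⟨4, h4⟩
  obtain ⟨ax, hax⟩ : g * x * g⁻¹ ∈ N := hnorm' g hgP x ⟨1, h1⟩
  obtain ⟨ay, hay⟩ : g * y * g⁻¹ ∈ N := hnorm' g hgP y ⟨2, h2⟩
  obtain ⟨n, hn⟩ : g * g ∈ N := by
    have h := Subgroup.sq_mem_of_index_two hidx (⟨g, hgP⟩ : P)
    rw [mem_subgroupOf, coe_pow, sq] at h
    exact h
  -- conditions
  have hp : ∀ i k, ν (nPow c i k) = ν i ^ k := R.nu_pow
  have hm : ∀ i l, ν (nMul c i l) = ν i * ν l := R.nu_mul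
  have hal : ∀ w, ν (nAl c af ax ay w) = g * ν w * g⁻¹ := fun w => by
    rw [nAl, hm, hm, hp, hp, hp, haf, hax, hay, conj_pow, conj_pow, conj_pow, conj_mul, conj_mul]
    rfl
  have hcF : cF c af = true := by
    rw [cF, Bool.and_eq_true, beq_iff_eq, bne_iff_ne]
    refine ⟨fun h0 => hgN ?_, hνi (by rw [hp, haf, conj_pow, R.hf, mul_one, mul_inv_cancel]; exact R.nu_zero.symm)⟩
    have e : ν af = f ^ (af.val / 4) := by
      rw [hν, nu, show af.val % 2 = 0 by omega, show af.val / 2 % 2 = 0 by omega, pow_zero, pow_zero, mul_one,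
        mul_one]
    rw [haf] at e
    obtain ⟨a, ha⟩ : ∃ a, a = af.val / 4 := ⟨_, rfl⟩
    rw [← ha] at e
    have hodd : a % 2 = 1 := by
      by_contra hev
      have h := congrArg (· ^ 4) e
      simp only [conj_pow, ← pow_mul] at h
      rw [show a * 4 = 8 * (a / 2) by omega, pow_mul, R.hf, one_pow, conj_eq_one_iff] at h
      have := orderOf_dvd_of_pow_eq_one h
      rw [hf] at this
      norm_num at this
    obtain ⟨i, hi⟩ : ∃ i : Fin 32, 3 ^ (i.val % 2) * 5 ^ (i.val / 2 % 2) % 8 = a % 8 := by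
      rcases (show a % 8 = 1 ∨ a % 8 = 3 ∨ a % 8 = 5 ∨ a % 8 = 7 by omega) with h | h | h | h
      exacts [⟨0, by simp [h]⟩, ⟨1, by simp [h]⟩, ⟨2, by simp [h]⟩, ⟨3, by simp [h]⟩]
    have hcom : (ν i)⁻¹ * g * f = f * ((ν i)⁻¹ * g) :=
      calc (ν i)⁻¹ * g * f = (ν i)⁻¹ * (g * f * g⁻¹) * g := by group
        _ = (ν i)⁻¹ * (ν i * f * (ν i)⁻¹) * g := by rw [e, hconj, ← pow_mod_eq R.hf a, ← hi, pow_mod_eq R.hf]
        _ = f * ((ν i)⁻¹ * g) := by group
    have hz := hself _ (mul_mem (inv_mem (hνP i)) hgP) hcom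
    have hzN : zpowers f ≤ N := zpowers_le.2 ⟨4, h4⟩
    simpa using mul_mem (show ν i ∈ N from ⟨i, rfl⟩) (hzN hz)
  have hcX : cX c af ax = true := by
    rw [cX, Bool.and_eq_true, beq_iff_eq, beq_iff_eq]
    refine ⟨hνi ?_, hνi ?_⟩
    · rw [hm, hax, conj_mul, ← sq, R.hx, mul_one, mul_inv_cancel, hν, R.nu_zero]
    · rw [hm, hm, hp, hax, haf, conj_mul, conj_mul, conj_pow, R.xf, mul_assoc (f ^ 3), ← sq, R.hx, mul_one]
  have hcY : cY c af ax ay = true := by
    rw [cY, Bool.and_eq_true, Bool.and_eq_true, beq_iff_eq, beq_iff_eq, beq_iff_eq]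
    refine ⟨⟨hνi ?_, hνi ?_⟩, hνi ?_⟩
    · rw [hm, hay, conj_mul, ← sq, R.hy, mul_one, mul_inv_cancel, hν, R.nu_zero]
    · rw [hm, hm, hp, hay, haf, conj_mul, conj_mul, conj_pow, R.yf, mul_assoc (f ^ 5), ← sq, R.hy, mul_one]
    · have hxx : x * x = 1 := by rw [← sq, R.hx]
      have hyy : y * y = 1 := by rw [← sq, R.hy]
      have hxy : x * y * (x * y) = f ^ (4 * c.val) := by
        calc x * y * (x * y) = x * (y * x) * y := by group
          _ = (x * f ^ (4 * c.val) * x⁻¹) * (x * x) * (y * y) := by rw [R.yx]; group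
          _ = f ^ (4 * c.val) := by
              rw [hxn, hxx, hyy, mul_one, mul_one, show 3 * (4 * c.val) = 8 * c.val + 4 * c.val by ring,
                pow_add, pow_mul, R.hf, one_pow, one_mul]
      rw [hm, hm, hp, hax, hay, haf, conj_mul, conj_mul, conj_pow, hxy]
  have hcN : cN c af ax ay n = true := by
    simp only [cN, Bool.and_eq_true, beq_iff_eq, nConjEq]
    refine ⟨⟨⟨hνi ?_, hνi ?_⟩, hνi ?_⟩, hνi ?_⟩
    · rw [hal, hn]; group
    · rw [hm, hm, hal, haf, hn, h4]; group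
    · rw [hm, hm, hal, hax, hn, h1]; group
    · rw [hm, hm, hal, hay, hn, h2]; group
  have hL := params_complete c
  simp only [List.all_eq_true, Bool.or_eq_true, Bool.not_eq_true', List.mem_finRange, forall_const,
    List.any_eq_true, beq_iff_eq] at hL
  obtain ⟨⟨code', t, sp⟩, hmem, hcode⟩ := (((((hL af).resolve_left (by rw [hcF]; decide) ax).resolve_left
    (by rw [hcX]; decide) ay).resolve_left (by rw [hcY]; decide) n).resolve_left (by rw [hcN]; decide))
  have hok := List.all_eq_true.1 params_ok _ hmem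
  simp only [Bool.and_eq_true, decide_eq_true_eq, beq_iff_eq, List.all_eq_true, List.mem_finRange,
    forall_const] at hok
  obtain ⟨⟨⟨⟨ht, hσ0⟩, -⟩, hσm⟩, hσs⟩ := hok
  have hdec : decode code' = (c, af, ax, ay, n) := by
    rw [show code' = code c af ax ay n from hcode]
    simp only [decode, code, Prod.mk.injEq, Fin.ext_iff]
    refine ⟨?_, ?_, ?_, ?_, ?_⟩ <;> omega
  simp only [hdec] at hσm
  set T : Fin 7 := ⟨t % 7, Nat.mod_lt _ (by norm_num)⟩
  -- the indexing by the extension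
  let a : Fin 64 → G := fun i => ν ⟨i.val % 32, Nat.mod_lt _ (by norm_num)⟩ * g ^ (i.val / 32)
  have hmk : ∀ m l, a (mk64 m l) = ν m * g ^ (bif l then 1 else 0) := fun m l => by
    cases l
    · simp only [a, mk64, cond_false, add_zero]
      rw [show m.val / 32 = 0 by omega]
      congr 2
      exact Fin.ext (by simp [Nat.mod_eq_of_lt m.2])
    · simp only [a, mk64, cond_true]
      rw [show (m.val + 32) / 32 = 1 by omega]
      congr 2
      exact Fin.ext (by simp [Nat.mod_eq_of_lt m.2])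
  have hi64 : ∀ i : Fin 64, ∃ m l, i = mk64 m l := fun i =>
    ⟨⟨i.val % 32, Nat.mod_lt _ (by norm_num)⟩, decide (32 ≤ i.val), Fin.ext (by
      simp only [mk64]
      by_cases h : 32 ≤ i.val <;> simp [h] <;> omega)⟩
  have hnext : ∀ i j, a (next c af ax ay n j i) = a i * a (gIdx j) := by
    intro i j
    obtain ⟨m, l, rfl⟩ := hi64 i
    have hg4 : a (gIdx 0) = f ∧ a (gIdx 1) = x ∧ a (gIdx 2) = y ∧ a (gIdx 3) = g := by
      refine ⟨?_, ?_, ?_, ?_⟩
      · rw [show gIdx 0 = mk64 4 false from rfl, hmk, h4]; simp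
      · rw [show gIdx 1 = mk64 1 false from rfl, hmk, h1]; simp
      · rw [show gIdx 2 = mk64 2 false from rfl, hmk, h2]; simp
      · rw [show gIdx 3 = mk64 0 true from rfl, hmk, hν, R.nu_zero]; simp
    obtain ⟨⟨n0, n1, n2, n3⟩, ⟨n0', n1', n2', n3'⟩⟩ := next_mk c af ax ay n m
    cases l <;> fin_cases j
    · show a (next c af ax ay n 0 _) = _ * a (gIdx 0)
      rw [hg4.1, n0, hmk, hm, hmk, h4]; simp
    · show a (next c af ax ay n 1 _) = _ * a (gIdx 1)
      rw [hg4.2.1, n1, hmk, hm, hmk, h1]; simp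
    · show a (next c af ax ay n 2 _) = _ * a (gIdx 2)
      rw [hg4.2.2.1, n2, hmk, hm, hmk, h2]; simp
    · show a (next c af ax ay n 3 _) = _ * a (gIdx 3)
      rw [hg4.2.2.2, n3, hmk, hmk]; simp
    · show a (next c af ax ay n 0 _) = _ * a (gIdx 0)
      rw [hg4.1, n0', hmk, hm, haf, hmk]; simp [mul_assoc]
    · show a (next c af ax ay n 1 _) = _ * a (gIdx 1)
      rw [hg4.2.1, n1', hmk, hm, hax, hmk]; simp [mul_assoc]
    · show a (next c af ax ay n 2 _) = _ * a (gIdx 2)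
      rw [hg4.2.2.1, n2', hmk, hm, hay, hmk]; simp [mul_assoc]
    · show a (next c af ax ay n 3 _) = _ * a (gIdx 3)
      rw [hg4.2.2.2, n3', hmk, hm, hn, hmk]; simp [mul_assoc]
  have hinj : Function.Injective a := by
    intro i j h
    obtain ⟨m, l, rfl⟩ := hi64 i
    obtain ⟨m', l', rfl⟩ := hi64 j
    rw [hmk, hmk] at h
    cases l <;> cases l' <;> simp only [cond_true, cond_false, pow_zero, pow_one, mul_one] at h
    · rw [hνi h]
    · exact absurd (show g ∈ N from by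
        rw [show g = (ν m')⁻¹ * ν m by rw [h]; group]
        exact mul_mem (inv_mem ⟨m', rfl⟩) ⟨m, rfl⟩) hgN
    · exact absurd (show g ∈ N from by
        rw [show g = (ν m)⁻¹ * ν m' by rw [← h]; group]
        exact mul_mem (inv_mem ⟨m, rfl⟩) ⟨m', rfl⟩) hgN
    · rw [hνi (mul_right_cancel h)]
  have ha0 : a 0 = 1 := by
    rw [show (0 : Fin 64) = mk64 0 false from rfl, hmk, hν, R.nu_zero]
    simp
  have haP : ∀ i, a i ∈ P := fun i => mul_mem (hνP _) (pow_mem hgP _)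
  -- parents in the extension
  have hpar : ∀ i : Fin 64, i ≠ 0 → ∃ j q, (q : Fin 64).val < i.val ∧ next c af ax ay n j q = i := by
    intro i hi
    obtain ⟨m, l, rfl⟩ := hi64 i
    cases l
    · obtain ⟨e, he, q, hq, hqm⟩ := (n_facts c).2.2 m (fun e => hi (by rw [e]; rfl))
      simp only [List.mem_cons, List.not_mem_nil, or_false] at he
      obtain ⟨⟨n0, n1, n2, -⟩, -⟩ := next_mk c af ax ay n q
      rcases he with rfl | rfl | rfl
      · exact ⟨0, mk64 q false, by simpa [mk64] using hq, by rw [n0, hqm]⟩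
      · exact ⟨1, mk64 q false, by simpa [mk64] using hq, by rw [n1, hqm]⟩
      · exact ⟨2, mk64 q false, by simpa [mk64] using hq, by rw [n2, hqm]⟩
    · exact ⟨3, mk64 m false, by simp [mk64], (next_mk c af ax ay n m).1.2.2.2⟩
  set σ : Fin 64 → Fin 64 := fun i => at6 sp i with hσdef
  have key : ∀ i l, ∃ m, a m = a i * a l ∧ σ m = tMul T (σ i) (σ l) := by
    intro i l
    obtain ⟨k, hk⟩ : ∃ k, (l : ℕ) = k := ⟨_, rfl⟩
    induction k using Nat.strong_induction_on generalizing l with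
    | _ k ih =>
      by_cases hl : l = 0
      · exact ⟨i, by rw [hl, ha0, mul_one], by rw [hl, show σ 0 = 0 from hσ0, ((table_facts T).1 _).1]⟩
      · obtain ⟨j, q, hq, rfl⟩ := hpar l hl
        obtain ⟨m, hm1, hm2⟩ := ih q (hk ▸ hq) q rfl
        refine ⟨next c af ax ay n j m, by rw [hnext, hm1, hnext, mul_assoc], ?_⟩
        rw [show σ (next c af ax ay n j m) = tMul T (σ m) (σ (gIdx j)) from hσm m j,
          show σ (next c af ax ay n j q) = tMul T (σ q) (σ (gIdx j)) from hσm q j, hm2, tMul_assoc]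
  have hsurj : Function.Surjective σ := fun j => by
    have h := exists_of_testBit (fun i : Fin 64 => (σ i).val) j.val (List.finRange 64) 0
      (by rw [hσs, Nat.testBit_two_pow_sub_one]; simp [j.2])
    rcases h with h | ⟨i, -, e⟩
    · simp at h
    · exact ⟨i, Fin.ext e⟩
  have hbij : Function.Bijective σ := Finite.surjective_iff_bijective.1 hsurj
  let e := Equiv.ofBijective σ hbij
  refine ⟨T, ⟨⟨a ∘ e.symm, hinj.comp e.symm.injective, fun i j => ?_, fun v => ⟨fun hv => ?_, ?_⟩⟩⟩⟩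
  · obtain ⟨m, hm1, hm2⟩ := key (e.symm i) (e.symm j)
    have hme : e m = tMul T i j := by
      show σ m = _
      rw [hm2]
      congr 1 <;> exact e.apply_symm_apply _
    show a (e.symm (tMul T i j)) = a (e.symm i) * a (e.symm j)
    rw [← hme, e.symm_apply_apply, hm1]
  · have hall : Function.Surjective (fun i : Fin 64 => (⟨a i, haP i⟩ : P)) := by
      refine ((Nat.bijective_iff_injective_and_card _).2 ⟨fun i j h => hinj (congrArg Subtype.val h), ?_⟩).2
      rw [Nat.card_fin, hP]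
    obtain ⟨i, hi⟩ := hall ⟨v, hv⟩
    exact ⟨e i, by simpa using congrArg Subtype.val hi⟩
  · rintro ⟨i, rfl⟩
    exact haP _

end Cfsg.Lib.MTwelveEight
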