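import Cfsg.Agent.Lib.MTwelveEight.Check
import Cfsg.Agent.Lib.MTwelveEight.Ext

/-!
Facts used to read the certificates: the closures, the covering of the subgroups, the invariant under
permutations respecting the table, and the linear maps of the labels.
-/

set_option autoImplicit false
set_option linter.style.longLine false
set_option maxRecDepth 100000

namespace Cfsg.Lib.MTwelveEight

variable {t : Fin 7}

theorem tMul_zero (i : Fin 64) : tMul t i 0 = i ∧ tMul t 0 i = i := (table_facts t).1 i

theorem mem_membL {K : ℕ} {i : Fin 64} : i ∈ membL K ↔ mm K i = true := by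
  simp [membL]

theorem mm_or_bit (S : ℕ) (m i : Fin 64) : mm (S ||| 1 <<< m.val) i = (mm S i || decide (m = i)) := by
  rw [mm, mm, Nat.testBit_or, Nat.one_shiftLeft, Nat.testBit_two_pow]
  congr 1
  exact decide_eq_decide.2 Fin.val_inj

theorem mm_zero (i : Fin 64) : mm 0 i = false := Nat.zero_testBit _

theorem mm_fold {α : Type*} (f : α → Fin 64) (i : Fin 64) : ∀ (L : List α) (S : ℕ),
    mm (L.foldl (fun T a => T ||| 1 <<< (f a).val) S) i = true ↔ mm S i = true ∨ ∃ a ∈ L, f a = i := by
  intro L
  induction L with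
  | nil => simp
  | cons a L ih =>
    intro S
    rw [List.foldl_cons, ih, mm_or_bit, Bool.or_eq_true, decide_eq_true_iff]
    simp only [List.mem_cons, exists_eq_or_imp, or_assoc]

/-- All members of the mask satisfy the predicate. -/
def Within (J : Fin 64 → Prop) (S : ℕ) : Prop := ∀ i, mm S i = true → J i

theorem Within.cStep {J : Fin 64 → Prop} (hJ : ∀ i j, J i → J j → J (tMul t i j)) {g : List (Fin 64)}
    (hg : ∀ h ∈ g, J h) {S : ℕ} (hS : Within J S) : Within J (cStep t g S) := by
  have main : ∀ (L : List (Fin 64)), (∀ x ∈ L, J x) → ∀ T, Within J T →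
      Within J (L.foldl (fun T x => g.foldl (fun T' h => T' ||| 1 <<< (tMul t x h).val) T) T) := by
    intro L
    induction L with
    | nil => intro _ T hT; exact hT
    | cons x L ih =>
      intro hL T hT
      rw [List.foldl_cons]
      refine ih (fun y hy => hL y (List.mem_cons_of_mem _ hy)) _ fun i hi => ?_
      rcases (mm_fold (fun h => tMul t x h) i g T).1 hi with h | ⟨h, hh, rfl⟩
      · exact hT i h
      · exact hJ _ _ (hL x List.mem_cons_self) (hg h hh)
  exact main _ (fun x hx => hS x (mem_membL.1 hx)) S hS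

theorem Within.cLo {J : Fin 64 → Prop} (hJ : ∀ i j, J i → J j → J (tMul t i j)) {g : List (Fin 64)}
    (hg : ∀ h ∈ g, J h) : ∀ (n : ℕ) {S : ℕ}, Within J S → Within J (cLo t g n S) := by
  intro n
  induction n with
  | zero => intro S hS; exact hS
  | succ n ih =>
    intro S hS
    rw [MTwelveEight.cLo]
    cases (MTwelveEight.cStep t g S == S)
    · exact ih (hS.cStep hJ hg)
    · exact hS

theorem cosetRep_mem {J : Fin 64 → Prop} (hJ : ∀ i j, J i → J j → J (tMul t i j)) {K : ℕ}
    (hK : Within J K) {y : Fin 64} (hy : J y) : J (cosetRep t K y) := by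
  refine List.foldlRecOn (membL K) _ hy fun m hm k hk => ?_
  split
  · exact hJ _ _ (hK k (mem_membL.1 hk)) hy
  · exact hm

/-- Every subgroup through the central involution outside the maximal subgroup is in the certificate. -/
theorem exists_entry (ht : t ≠ 0) {J : Fin 64 → Prop} (hJ : ∀ i j, J i → J j → J (tMul t i j))
    (h0 : J 0) (h16 : J 16) (hx : ∃ x, J x ∧ mm (Table.maxMask t.val) x = false) :
    ∃ e ∈ Table.cert t.val, ∀ i, mm (eMask e) i = true ↔ J i := by
  classical
  have hc := cover_ok t ht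
  set L := Table.cert t.val with hL
  simp only [chkCover, Bool.and_eq_true, List.all_eq_true, List.mem_finRange, forall_const,
    Bool.or_eq_true, List.any_eq_true, beq_iff_eq] at hc
  obtain ⟨hbase, hstep⟩ := hc
  have hone : Within J 1 := fun i hi => by
    rw [mm, Nat.testBit_one_eq_true_iff_self_eq_zero] at hi
    rw [show i = 0 from Fin.ext hi]
    exact h0
  set F := L.toFinset.filter fun e => Within J (eMask e) with hF
  have hne : F.Nonempty := by
    obtain ⟨x, hxJ, hxM⟩ := hx
    obtain h | ⟨e, heL, he⟩ := hbase x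
    · rw [hxM] at h; exact absurd h Bool.false_ne_true
    refine ⟨e, Finset.mem_filter.2 ⟨List.mem_toFinset.2 heL, ?_⟩⟩
    rw [he]
    exact hone.cLo hJ (fun h hh => by
      simp only [List.mem_cons, List.not_mem_nil, or_false] at hh
      rcases hh with rfl | rfl
      exacts [h16, hxJ]) _
  let cnt : Entry → ℕ := fun e => (Finset.univ.filter fun i => mm (eMask e) i = true).card
  obtain ⟨e, heF, hmax⟩ := F.exists_max_image cnt hne
  obtain ⟨heL, heJ⟩ := Finset.mem_filter.1 heF
  rw [List.mem_toFinset] at heL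
  refine ⟨e, heL, fun i => ⟨heJ i, fun hi => ?_⟩⟩
  obtain ⟨⟨-, hgens⟩, hy⟩ := hstep e heL
  induction hn : i.val using Nat.strong_induction_on generalizing i with
  | _ n ih =>
    by_contra hni
    obtain h | ⟨⟨hnot, hle⟩, hor⟩ := hy i
    · exact hni h
    rw [decide_eq_true_iff] at hle
    rcases hor with hne' | ⟨e', he'L, ⟨he', hyin⟩, hsub⟩
    · have hlt : (cosetRep t (eMask e) i).val < n := by
        rw [← hn]
        exact lt_of_le_of_ne hle fun h => (bne_iff_ne.1 hne') (Fin.ext h)
      have h := ih _ hlt _ (cosetRep_mem hJ heJ hi) rfl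
      simp only [h, Bool.not_true] at hnot
      exact Bool.false_ne_true hnot
    · have hF' : e' ∈ F := Finset.mem_filter.2 ⟨List.mem_toFinset.2 he'L, by
        rw [he']
        refine hone.cLo hJ (fun h hh => ?_) _
        rw [List.mem_append, List.mem_singleton] at hh
        rcases hh with hh | rfl
        exacts [heJ h (hgens h hh), hi]⟩
      refine absurd (hmax e' hF') (not_le.2 (Finset.card_lt_card ⟨fun q hq => ?_, fun hss => ?_⟩))
      · rw [Finset.mem_filter] at hq ⊢
        exact ⟨hq.1, hsub q (mem_membL.2 hq.2)⟩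
      · exact hni (Finset.mem_filter.1 (hss (Finset.mem_filter.2 ⟨Finset.mem_univ i, hyin⟩))).2

/-- The invariant is preserved by a permutation respecting the mask and the table. -/
theorem key_perm {K : ℕ} (σ : Equiv.Perm (Fin 64)) (hm : ∀ i, mm K (σ i) = mm K i)
    (hc : ∀ i j, mm K i = true → mm K j = true → mm K (tMul t i j) = true)
    (hmul : ∀ i j, mm K i = true → mm K j = true → σ (tMul t i j) = tMul t (σ i) (σ j))
    (h0 : σ 0 = 0) {x : Fin 64} (hx : mm K x = true) : key t K (σ x) = key t K x := by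
  have hxx := hc x x hx hx
  have c1 : ∀ (p : Fin 64 → Bool) (p' : Fin 64 → Bool), (∀ q, mm K q = true → p' (σ q) = p q) →
      (Finset.univ.filter fun q => (mm K q && p' q) = true).card =
        (Finset.univ.filter fun q => (mm K q && p q) = true).card := by
    intro p p' h
    refine (Finset.card_equiv σ fun q => ?_).symm
    simp only [Finset.mem_filter, Finset.mem_univ, true_and, Bool.and_eq_true, hm]
    exact and_congr_right fun hq => by rw [h q hq]
  have heq : ∀ a b : Fin 64, (σ a == σ b) = (a == b) := fun a b => by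
    rw [Bool.eq_iff_iff, beq_iff_eq, beq_iff_eq, σ.injective.eq_iff]
  unfold key
  rw [c1 (fun q => tMul t x q == tMul t q x) (fun q => tMul t (σ x) q == tMul t q (σ x))
      (fun q hq => by rw [← hmul x q hx hq, ← hmul q x hq hx, heq]),
    c1 (fun q => tMul t q q == x) (fun q => tMul t q q == σ x)
      (fun q hq => by rw [← hmul q q hq hq, heq]),
    c1 (fun q => tMul t q q == tMul t x x) (fun q => tMul t q q == tMul t (σ x) (σ x))
      (fun q hq => by rw [← hmul q q hq hq, ← hmul x x hx hx, heq]),
    ← hmul x x hx hx, ← hmul _ _ hxx hxx]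
  have hz : ∀ a, (σ a == 0) = (a == 0) := fun a => by conv_lhs => rw [← h0]; rw [heq]
  rw [hz, hz]

/-- The labels of equal invariant. -/
theorem sigv_perm {K k : ℕ} {lab : Fin 64 → Fin k} (σ : Equiv.Perm (Fin 64)) (π : Fin k → Fin k)
    (hπ : Function.Injective π) (hm : ∀ i, mm K (σ i) = mm K i)
    (hc : ∀ i j, mm K i = true → mm K j = true → mm K (tMul t i j) = true)
    (hmul : ∀ i j, mm K i = true → mm K j = true → σ (tMul t i j) = tMul t (σ i) (σ j))
    (h0 : σ 0 = 0) (hlab : ∀ i, mm K i = true → lab (σ i) = π (lab i)) (v : Fin k) :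
    sigv t K lab (π v) = sigv t K lab v := by
  refine (Finset.sum_equiv σ (fun q => ?_) fun q hq => ?_).symm
  · simp only [Finset.mem_filter, Finset.mem_univ, true_and, Bool.and_eq_true, hm, beq_iff_eq]
    exact and_congr_right fun hq => by rw [hlab q hq, hπ.eq_iff]
  · rw [Finset.mem_filter, Bool.and_eq_true] at hq
    rw [key_perm σ hm hc hmul h0 hq.2.1]

/-- Linearity of a map of labels. -/
def IsLin {k : ℕ} (hk : 0 < k) (f : Fin k → Fin k) : Prop := ∀ u v, f (xr hk u v) = xr hk (f u) (f v)

/-- A list contains all injective linear maps. -/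
def HasLin {k : ℕ} (hk : 0 < k) (C : List (Fin k → Fin k)) : Prop :=
  ∀ f, injf f = true → IsLin hk f → f ∈ C

theorem xr_facts : (∀ a b : Fin 2, (xr (k := 2) (by norm_num) a b = a ↔ b.val = 0) ∧ (xr (k := 2) (by norm_num) a a).val = 0) ∧
    (∀ a b : Fin 4, (xr (k := 4) (by norm_num) a b = a ↔ b.val = 0) ∧ (xr (k := 4) (by norm_num) a a).val = 0) ∧
    (∀ a b : Fin 8, (xr (k := 8) (by norm_num) a b = a ↔ b.val = 0) ∧ (xr (k := 8) (by norm_num) a a).val = 0) := by
  decide +kernel

theorem hasLin_two : HasLin (k := 2) (by norm_num) cand1 := by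
  intro f
  revert f
  unfold IsLin cand1
  have h : ∀ f : Fin 2 → Fin 2, injf f = true →
      (∀ u v, f (xr (by norm_num) u v) = xr (by norm_num) (f u) (f v)) → eqf f id = true := by decide +kernel
  exact fun f h1 h2 => List.mem_singleton.2 (eqf_iff.1 (h f h1 h2))

theorem IsLin.eq_lin2 {f : Fin 4 → Fin 4} (h : IsLin (by norm_num) f) : f = lin2 (f 1) (f 2) := by
  have key : ∀ a b c : Fin 4, xr (by norm_num) a a = c →
      c = lin2 a b 0 ∧ a = lin2 a b 1 ∧ b = lin2 a b 2 ∧ xr (by norm_num) a b = lin2 a b 3 := by decide +kernel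
  obtain ⟨k0, k1, k2, k3⟩ := key (f 1) (f 2) (f 0) (by rw [← h]; rfl)
  funext v
  fin_cases v
  · exact k0
  · exact k1
  · exact k2
  · exact (h 1 2).trans k3

theorem IsLin.eq_lin3 {f : Fin 8 → Fin 8} (h : IsLin (by norm_num) f) : f = lin3 (f 1) (f 2) (f 4) := by
  have key : ∀ a b c : Fin 8, xr (by norm_num) a a = lin3 a b c 0 ∧ a = lin3 a b c 1 ∧ b = lin3 a b c 2 ∧
      xr (by norm_num) a b = lin3 a b c 3 ∧ c = lin3 a b c 4 ∧ xr (by norm_num) a c = lin3 a b c 5 ∧
      xr (by norm_num) b c = lin3 a b c 6 ∧ xr (by norm_num) (xr (by norm_num) a b) c = lin3 a b c 7 := by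
    decide +kernel
  obtain ⟨k0, k1, k2, k3, k4, k5, k6, k7⟩ := key (f 1) (f 2) (f 4)
  funext v
  fin_cases v
  · exact (h 1 1).trans k0
  · exact k1
  · exact k2
  · exact (h 1 2).trans k3
  · exact k4
  · exact (h 1 4).trans k5
  · exact (h 2 4).trans k6
  · exact ((h (xr (by norm_num) 1 2) 4).trans (congrArg (fun w => xr (by norm_num) w (f 4)) (h 1 2))).trans k7

theorem hasLin_four : HasLin (k := 4) (by norm_num) cand2 := by
  intro f h1 h2
  rw [cand2, List.mem_filter, List.mem_flatMap]
  exact ⟨⟨f 1, List.mem_finRange _, List.mem_map.2 ⟨f 2, List.mem_finRange _, h2.eq_lin2.symm⟩⟩, h1⟩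

theorem hasLin_eight : HasLin (k := 8) (by norm_num) linList := by
  intro f h1 h2
  rw [linList, List.mem_filter]
  refine ⟨?_, h1⟩
  rw [h2.eq_lin3]
  simp

end Cfsg.Lib.MTwelveEight
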