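import Cfsg.Agent.Lib.Fusion.Generation
import Cfsg.Agent.Lib.PGroup.Basic
import Cfsg.Agent.Lib.Small.SimpleOrder

/-!
The action of the normaliser of a radical subgroup on a labelling of its cosets modulo squares.
-/

set_option autoImplicit false
set_option linter.style.haveILetI false
set_option linter.unusedSectionVars false

namespace Cfsg.Lib.MTwelveEight

open Subgroup Cfsg.Lib.Fusion

universe u

variable {G : Type u} [Group G]

/-- A labelling of the cosets of the subgroup generated by the squares. -/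
structure Labels (Q : Subgroup G) (k : ℕ) where
  /-- the label -/
  lab : G → Fin k
  coset : ∀ q ∈ Q, ∀ x ∈ Q, lab (q * x) = lab q ↔ lab x = lab 1
  surj : ∀ v, ∃ q ∈ Q, lab q = v
  sq : ∀ q ∈ Q, lab (q * q) = lab 1
  gen : ∀ x ∈ Q, lab x = lab 1 → x ∈ closure {y | ∃ q ∈ Q, y = q * q}

namespace Labels

variable {Q : Subgroup G} {k : ℕ} (Λ : Labels Q k)

/-- The elements with trivial label. -/
def base : Subgroup G where
  carrier := {x | x ∈ Q ∧ Λ.lab x = Λ.lab 1}
  one_mem' := ⟨one_mem _, rfl⟩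
  mul_mem' := by
    rintro x y ⟨hx, ex⟩ ⟨hy, ey⟩
    exact ⟨mul_mem hx hy, ((Λ.coset x hx y hy).2 ey).trans ex⟩
  inv_mem' := by
    rintro x ⟨hx, ex⟩
    refine ⟨inv_mem hx, (Λ.coset x hx _ (inv_mem hx)).1 ?_⟩
    rw [mul_inv_cancel, ex]

theorem lab_eq_iff {q q' : G} (hq : q ∈ Q) (hq' : q' ∈ Q) :
    Λ.lab q = Λ.lab q' ↔ q'⁻¹ * q ∈ Λ.base := by
  have h := Λ.coset q' hq' (q'⁻¹ * q) (mul_mem (inv_mem hq') hq)
  rw [mul_inv_cancel_left] at h
  exact h.trans ⟨fun e => ⟨mul_mem (inv_mem hq') hq, e⟩, fun e => e.2⟩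

theorem conj_base {g : G} (hg : g ∈ normalizer (Q : Set G)) {x : G} (hx : x ∈ Λ.base) :
    g * x * g⁻¹ ∈ Λ.base := by
  have hle : closure {y | ∃ q ∈ Q, y = q * q} ≤ Λ.base.comap (MulAut.conj g).toMonoidHom := by
    rw [closure_le]
    rintro _ ⟨q, hq, rfl⟩
    have hgq := (mem_normalizer_iff.1 hg q).1 hq
    show g * (q * q) * g⁻¹ ∈ Λ.base
    rw [show g * (q * q) * g⁻¹ = g * q * g⁻¹ * (g * q * g⁻¹) by group]
    exact ⟨mul_mem hgq hgq, Λ.sq _ hgq⟩
  exact hle (Λ.gen x hx.1 hx.2)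

theorem lab_conj {g : G} (hg : g ∈ normalizer (Q : Set G)) {q q' : G} (hq : q ∈ Q) (hq' : q' ∈ Q)
    (h : Λ.lab q = Λ.lab q') : Λ.lab (g * q * g⁻¹) = Λ.lab (g * q' * g⁻¹) := by
  have hm := Λ.conj_base hg ((Λ.lab_eq_iff hq hq').1 h)
  rw [Λ.lab_eq_iff ((mem_normalizer_iff.1 hg q).1 hq) ((mem_normalizer_iff.1 hg q').1 hq')]
  rwa [show (g * q' * g⁻¹)⁻¹ * (g * q * g⁻¹) = g * (q'⁻¹ * q) * g⁻¹ by group]

/-- The action of an element of the normaliser on the labels. -/
noncomputable def act (g : G) (v : Fin k) : Fin k := Λ.lab (g * (Λ.surj v).choose * g⁻¹)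

theorem act_lab {g : G} (hg : g ∈ normalizer (Q : Set G)) {q : G} (hq : q ∈ Q) :
    Λ.act g (Λ.lab q) = Λ.lab (g * q * g⁻¹) :=
  Λ.lab_conj hg (Λ.surj _).choose_spec.1 hq (Λ.surj _).choose_spec.2

/-- The permutation action of the normaliser on the labels. -/
noncomputable def hom : normalizer (Q : Set G) →* Equiv.Perm (Fin k) :=
  MonoidHom.toHomPerm
    { toFun := fun g => Λ.act g
      map_one' := funext fun v => by
        obtain ⟨q, hq, rfl⟩ := Λ.surj v
        show Λ.act ((1 : normalizer (Q : Set G)) : G) (Λ.lab q) = Λ.lab q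
        rw [Λ.act_lab (SetLike.coe_mem _) hq, OneMemClass.coe_one, one_mul, inv_one, mul_one]
      map_mul' := fun g h => funext fun v => by
        obtain ⟨q, hq, rfl⟩ := Λ.surj v
        show Λ.act ((g * h : normalizer (Q : Set G)) : G) (Λ.lab q) = Λ.act g (Λ.act h (Λ.lab q))
        rw [Λ.act_lab (SetLike.coe_mem _) hq, Λ.act_lab h.2 hq,
          Λ.act_lab g.2 ((mem_normalizer_iff.1 h.2 q).1 hq), coe_mul]
        congr 1
        group }

theorem hom_apply {g : normalizer (Q : Set G)} {q : G} (hq : q ∈ Q) :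
    Λ.hom g (Λ.lab q) = Λ.lab ((g : G) * q * (g : G)⁻¹) :=
  Λ.act_lab g.2 hq

variable [Finite G]

/-- An automorphism of odd order fixing every label is trivial. -/
theorem eq_one_of_fix (hQ : IsPGroup 2 Q) {α : MulAut Q} (hodd : Odd (orderOf α))
    (hfix : ∀ q : Q, Λ.lab (α q : G) = Λ.lab (q : G)) : α = 1 := by
  by_contra hne
  obtain ⟨p, hp, hpd⟩ := Nat.exists_prime_and_dvd (fun h => hne (orderOf_eq_one_iff.1 h))
  haveI : Fact p.Prime := ⟨hp⟩
  haveI : Fact (Nat.Prime 2) := ⟨Nat.prime_two⟩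
  have hp2 : ¬ p ∣ 2 := fun h => by
    have := (Nat.prime_dvd_prime_iff_eq hp Nat.prime_two).1 h
    rw [this] at hpd
    exact Nat.not_even_iff_odd.2 hodd (even_iff_two_dvd.2 hpd)
  set β := α ^ (orderOf α / p) with hβ
  have hord : orderOf β = p := orderOf_pow_orderOf_div (orderOf_pos α).ne' hpd
  have hfixβ : ∀ n : ℕ, ∀ q : Q, Λ.lab ((α ^ n) q : G) = Λ.lab (q : G) := by
    intro n
    induction n with
    | zero => intro q; rfl
    | succ n ih => intro q; rw [pow_succ, MulAut.mul_apply, ih, hfix]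
  let H : Subgroup Q :=
    { carrier := {q | β q = q}
      one_mem' := map_one β
      mul_mem' := fun {a b} ha hb => by show β (a * b) = a * b; rw [map_mul, ha, hb]
      inv_mem' := fun {a} ha => by show β a⁻¹ = a⁻¹; rw [map_inv, ha] }
  -- a fixed point in every fibre
  have hmeet : ∀ q : Q, ∃ h ∈ H, Λ.lab (h : G) = Λ.lab (q : G) := by
    intro q
    let F := {w : Q // Λ.lab (w : G) = Λ.lab (q : G)}
    letI := Fintype.ofFinite F
    have hcardF : Nat.card F = Nat.card Λ.base := by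
      refine Nat.card_congr ⟨fun w => ⟨(q : G)⁻¹ * (w.1 : G), (Λ.lab_eq_iff w.1.2 q.2).1 w.2⟩,
        fun x => ⟨⟨(q : G) * x.1, mul_mem q.2 x.2.1⟩, (Λ.coset _ q.2 _ x.2.1).2 x.2.2⟩,
        fun w => Subtype.ext (Subtype.ext (by simp)), fun x => Subtype.ext (by simp)⟩
    have hn : ¬ p ∣ Fintype.card F := by
      rw [← Nat.card_eq_fintype_card, hcardF]
      obtain ⟨m, hm⟩ := IsPGroup.iff_card.1 (hQ.to_le (show Λ.base ≤ Q from fun x hx => hx.1))
      rw [hm]
      exact fun h => hp2 (hp.dvd_of_dvd_pow h)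
    let σ : Equiv.Perm F := β.toEquiv.subtypeEquiv fun w => by
      show Λ.lab (w : G) = _ ↔ Λ.lab ((β w : Q) : G) = _
      rw [hβ, hfixβ]
    have hσ : ∀ (n : ℕ) (w : F), ((σ ^ n) w).1 = (β ^ n) w.1 := by
      intro n
      induction n with
      | zero => intro w; rfl
      | succ n ih => intro w; rw [pow_succ', pow_succ', MulAut.mul_apply, ← ih]; rfl
    obtain ⟨w, hw⟩ := Equiv.Perm.exists_fixed_point_of_prime hn (σ := σ) (n := 1) (by
      refine Equiv.ext fun w => Subtype.ext ?_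
      rw [pow_one, hσ, ← hord, pow_orderOf_eq_one]
      rfl)
    exact ⟨w.1, congrArg Subtype.val hw, w.2⟩
  have htop : H = ⊤ := by
    by_contra hH
    obtain ⟨M, hM, hHM⟩ := (eq_top_or_exists_le_coatom H).resolve_left hH
    refine hM.1 ((eq_top_iff' M).2 fun q => ?_)
    obtain ⟨h, hh, hl⟩ := hmeet q
    have hsq : closure {y : G | ∃ q ∈ Q, y = q * q} ≤ M.map Q.subtype := by
      rw [closure_le]
      rintro _ ⟨x, hx, rfl⟩
      exact ⟨⟨x, hx⟩ ^ 2, Cfsg.Lib.PGroup.pow_mem_of_isCoatom hQ hM _, by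
        simp only [map_pow, Subgroup.coe_subtype]; exact pow_two x⟩
    have hb := (Λ.lab_eq_iff q.2 h.2).1 hl.symm
    obtain ⟨x, hx, hxe⟩ := hsq (Λ.gen _ hb.1 hb.2)
    have e : h⁻¹ * q = x := Subtype.ext (by simpa using hxe.symm)
    have := mul_mem (hHM hh) (e ▸ hx)
    rwa [mul_inv_cancel_left] at this
  have h1 : β = 1 := MulEquiv.ext fun q => (htop ▸ mem_top q : q ∈ H)
  rw [h1, orderOf_one] at hord
  exact hp.ne_one hord.symm

variable {S : Sylow 2 G}

/-- For a radical subgroup the image has no nontrivial normal 2-subgroup, and its Sylow order is known. -/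
theorem radical_image (hfn : FullyNormalized S Q) (hrad : Radical S Q) :
    (∀ Y : Subgroup Λ.hom.range, Y.Normal → IsPGroup 2 Y → Y = ⊥) ∧
      ∃ j, Odd j ∧ Nat.card Λ.hom.range * Nat.card Q =
        j * Nat.card ↥((S : Subgroup G) ⊓ normalizer (Q : Set G)) := by
  classical
  haveI : Fact (Nat.Prime 2) := ⟨Nat.prime_two⟩
  set N := normalizer (Q : Set G) with hN
  set π := Λ.hom.rangeRestrict with hπ
  set T : Subgroup N := ((S : Subgroup G) ⊓ N).subgroupOf N with hT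
  have hQp : IsPGroup 2 Q := S.2.to_le hfn.1
  set Qn : Subgroup N := Q.subgroupOf N with hQn
  set C : Subgroup N := (centralizer (Q : Set G)).subgroupOf N with hC
  have hbsq : ∀ a ∈ Q, a * a ∈ Λ.base := fun a ha => ⟨mul_mem ha ha, Λ.sq a ha⟩
  have hQK : ∀ x : N, (x : G) ∈ Q → π x = 1 := by
    intro x hx
    refine Subtype.ext (Equiv.ext fun v => ?_)
    obtain ⟨q, hq, rfl⟩ := Λ.surj v
    show Λ.hom x (Λ.lab q) = Λ.lab q
    rw [Λ.hom_apply hq, Λ.lab_eq_iff (mul_mem (mul_mem hx hq) (inv_mem hx)) hq,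
      show q⁻¹ * ((x : G) * q * (x : G)⁻¹) = (q⁻¹ * x) * (q⁻¹ * x) *
        ((x : G)⁻¹ * (q * q) * x) * ((x : G)⁻¹ * (x : G)⁻¹) by group]
    refine mul_mem (mul_mem (hbsq _ (mul_mem (inv_mem hq) hx)) ?_) (hbsq _ (inv_mem hx))
    simpa using Λ.conj_base (le_normalizer (inv_mem hx)) (hbsq q hq)
  have hCK : ∀ x ∈ C, π x = 1 := by
    intro x hx
    refine Subtype.ext (Equiv.ext fun v => ?_)
    obtain ⟨q, hq, rfl⟩ := Λ.surj v
    show Λ.hom x (Λ.lab q) = Λ.lab q
    rw [Λ.hom_apply hq, ← mem_centralizer_iff.1 (mem_subgroupOf.1 hx) q hq, mul_inv_cancel_right]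
  -- the kernel is a 2-group modulo the centraliser
  have hker : ∀ x : N, π x = 1 → ∃ n, x ^ 2 ^ n ∈ C := by
    intro x hx
    obtain ⟨n, m, hm, hnm⟩ := Nat.exists_eq_two_pow_mul_odd (orderOf_pos x).ne'
    refine ⟨n, ?_⟩
    set y := x ^ 2 ^ n with hy
    have hy1 : π y = 1 := by rw [hy, map_pow, hx, one_pow]
    let α : MulAut Q :=
      { toFun := fun q => ⟨(y : G) * q * (y : G)⁻¹, (mem_normalizer_iff.1 y.2 q).1 q.2⟩
        invFun := fun q => ⟨(y : G)⁻¹ * q * y, by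
          simpa using (mem_normalizer_iff.1 (inv_mem y.2) (q : G)).1 q.2⟩
        left_inv := fun q => Subtype.ext (by simp [mul_assoc])
        right_inv := fun q => Subtype.ext (by simp [mul_assoc])
        map_mul' := fun a b => Subtype.ext (by simp [mul_assoc]) }
    have hpow : ∀ (k : ℕ) (q : Q), ((α ^ k) q : G) = (y : G) ^ k * q * ((y : G) ^ k)⁻¹ := by
      intro k
      induction k with
      | zero => intro q; simp
      | succ k ih =>
        intro q
        rw [pow_succ, MulAut.mul_apply, ih, pow_succ]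
        show (y : G) ^ k * ((y : G) * q * (y : G)⁻¹) * ((y : G) ^ k)⁻¹ = _
        group
    have hord : Odd (orderOf α) := by
      refine hm.of_dvd_nat (orderOf_dvd_of_pow_eq_one (MulEquiv.ext fun q => Subtype.ext ?_))
      rw [hpow]
      have e : (y : G) ^ m = 1 := by
        rw [← coe_pow, hy, ← pow_mul, ← hnm, pow_orderOf_eq_one, OneMemClass.coe_one]
      rw [e]
      simp
    have hα := Λ.eq_one_of_fix hQp hord fun q => by
      show Λ.lab ((y : G) * q * (y : G)⁻¹) = Λ.lab (q : G)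
      rw [← Λ.hom_apply q.2, show Λ.hom y = 1 from congrArg Subtype.val hy1]
      rfl
    refine mem_subgroupOf.2 (mem_centralizer_iff.2 fun q hq => ?_)
    have h : (y : G) * q * (y : G)⁻¹ = q := congrArg (fun β : MulAut Q => ((β ⟨q, hq⟩ : Q) : G)) hα
    exact (mul_inv_eq_iff_eq_mul.1 h).symm
  have hT2 : IsPGroup 2 T := (S.2.to_le inf_le_left).of_equiv (subgroupOfEquivOfLe inf_le_right).symm
  have hTi : ¬ 2 ∣ T.index := hfn.2
  haveI hCn : C.Normal := ⟨fun c hc g => mem_subgroupOf.2 (mem_centralizer_iff.2 fun q hq => by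
    have hq' : (g : G)⁻¹ * q * g ∈ Q := by simpa using (mem_normalizer_iff.1 (inv_mem g.2) q).1 hq
    have h := mem_centralizer_iff.1 (mem_subgroupOf.1 hc) _ hq'
    calc q * ((g : G) * (c : G) * (g : G)⁻¹) = (g : G) * ((g : G)⁻¹ * q * g * c) * (g : G)⁻¹ := by group
      _ = (g : G) * ((c : G) * ((g : G)⁻¹ * q * g)) * (g : G)⁻¹ := by rw [h]
      _ = (g : G) * (c : G) * (g : G)⁻¹ * q := by group)⟩
  -- normal subgroups that are 2-groups modulo the centraliser
  have main : ∀ W : Subgroup N, W.Normal → C ≤ W → Qn ≤ W → (∀ w ∈ W, ∃ n, w ^ 2 ^ n ∈ C) →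
      T ⊓ W ≤ Qn ∧ ∀ w ∈ W, π w = 1 := by
    intro W hW hCW hQW hpw
    haveI := hW
    have hWp : IsPGroup 2 (W.map (QuotientGroup.mk' C)) := by
      rintro ⟨_, w, hw, rfl⟩
      obtain ⟨n, hn⟩ := hpw w hw
      exact ⟨n, Subtype.ext (by
        show (QuotientGroup.mk' C w) ^ 2 ^ n = 1
        rw [← map_pow]; exact (QuotientGroup.eq_one_iff _).2 hn)⟩
    let R : Sylow 2 N := hT2.toSylow hTi
    let R' : Sylow 2 (N ⧸ C) := R.mapSurjective (QuotientGroup.mk'_surjective C)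
    have hle : W.map (QuotientGroup.mk' C) ≤ T.map (QuotientGroup.mk' C) :=
      hWp.le_sylow_of_normal R' |>.trans (le_of_eq rfl)
    have hrep : ∀ w ∈ W, ∃ t ∈ T ⊓ W, t⁻¹ * w ∈ C := by
      intro w hw
      obtain ⟨t, ht, hte⟩ := hle ⟨w, hw, rfl⟩
      have htc : t⁻¹ * w ∈ C := QuotientGroup.eq.1 hte
      refine ⟨t, ⟨ht, ?_⟩, htc⟩
      have := mul_mem hw (inv_mem (hCW htc))
      simpa [mul_assoc] using this
    have hTQ : T ⊓ W ≤ Qn := by
      have hr := hrad ((T ⊓ W).map N.subtype) ?_ ?_ ?_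
      · intro t ht
        exact mem_subgroupOf.2 (hr ⟨t, ht, rfl⟩)
      · intro q hq
        exact ⟨⟨q, le_normalizer hq⟩, ⟨mem_subgroupOf.2 ⟨hfn.1 hq, le_normalizer hq⟩, hQW hq⟩, rfl⟩
      · rintro _ ⟨t, ht, rfl⟩
        exact mem_subgroupOf.1 ht.1
      · rintro g hg _ ⟨m, hm, rfl⟩
        obtain ⟨t, ht, htc⟩ := hrep _ (hW.conj_mem m hm.2 ⟨g, hg⟩)
        refine ⟨t, ⟨t, ht, rfl⟩, fun q hq => ?_⟩
        have h := mem_centralizer_iff.1 (mem_subgroupOf.1 htc) q hq
        simp only [coe_mul, coe_inv, coe_subtype] at h ⊢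
        calc g * (m : G) * g⁻¹ * q * (g * (m : G) * g⁻¹)⁻¹
            = (t : G) * (((t : G)⁻¹ * (g * m * g⁻¹)) * q) * (g * (m : G) * g⁻¹)⁻¹ := by group
          _ = (t : G) * (q * ((t : G)⁻¹ * (g * m * g⁻¹))) * (g * (m : G) * g⁻¹)⁻¹ := by rw [h]
          _ = (t : G) * q * (t : G)⁻¹ := by group
    refine ⟨hTQ, fun w hw => ?_⟩
    obtain ⟨t, ht, htc⟩ := hrep w hw
    rw [show w = t * (t⁻¹ * w) by group, map_mul, hQK t (hTQ ht), hCK _ htc, mul_one]
  refine ⟨fun Y hY hYp => ?_, ?_⟩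
  · haveI := hY
    obtain ⟨-, h1⟩ := main (Y.comap π) inferInstance (fun x hx => by
        rw [mem_comap, hCK x hx]; exact one_mem _)
      (fun x hx => by rw [mem_comap, hQK x hx]; exact one_mem _) fun w hw => by
        obtain ⟨a, ha⟩ := hYp ⟨π w, hw⟩
        have h0 : π (w ^ 2 ^ a) = 1 := by rw [map_pow]; exact congrArg Subtype.val ha
        obtain ⟨b, hb⟩ := hker _ h0
        exact ⟨a + b, by rwa [pow_add, pow_mul]⟩
    refine (eq_bot_iff_forall _).2 fun y hy => ?_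
    obtain ⟨w, rfl⟩ := Λ.hom.rangeRestrict_surjective y
    exact h1 w hy
  · obtain ⟨hTQ, -⟩ := main π.ker inferInstance (fun x hx => hCK x hx) (fun x hx => hQK x hx)
      fun w hw => hker w hw
    have hQT : Qn ≤ T := fun x hx => mem_subgroupOf.2 ⟨hfn.1 hx, x.2⟩
    have hinf : T ⊓ π.ker = Qn := le_antisymm hTQ (le_inf hQT fun x hx => hQK x hx)
    have hcq : Nat.card Qn = Nat.card Q := Nat.card_congr (subgroupOfEquivOfLe le_normalizer).toEquiv
    have hcT : Nat.card T = Nat.card ↥((S : Subgroup G) ⊓ N) :=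
      Nat.card_congr (subgroupOfEquivOfLe inf_le_right).toEquiv
    have hmap : Nat.card (T.map π) * Nat.card Qn = Nat.card T := by
      rw [← hinf, ← Nat.card_congr (subgroupOfEquivOfLe (inf_le_left : T ⊓ π.ker ≤ T)).toEquiv,
        inf_subgroupOf_left, ← (π.comp T.subtype).ker.card_mul_index, index_ker, MonoidHom.range_comp,
        range_subtype, mul_comm]
      rfl
    refine ⟨(T.map π).index, ?_, ?_⟩
    · rw [Nat.odd_iff, ← Nat.two_dvd_ne_zero]
      exact fun h => hTi (h.trans (index_map_dvd T Λ.hom.rangeRestrict_surjective))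
    · rw [← hcq, ← hcT, ← hmap, ← (T.map π).card_mul_index]
      ring

end Labels

end Cfsg.Lib.MTwelveEight
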