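import Cfsg.Agent.Lib.MTwelveEight.Cover
import Cfsg.Agent.Lib.MTwelveEight.Radical
import Cfsg.Agent.Lib.TwoGroup.FusionInvariant

/-!
A simple group has no Sylow 2-subgroup with one of the six tables other than the first: the parity with
respect to the chosen maximal subgroup would be a fusion invariant and transfer.
-/

set_option autoImplicit false
set_option linter.style.longLine false
set_option linter.style.haveILetI false
set_option linter.unusedSectionVars false
set_option maxRecDepth 100000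

namespace Cfsg.Lib.MTwelveEight

open Subgroup Cfsg.Lib.Fusion

universe u

variable {G : Type u} [Group G] {S : Subgroup G} {t : Fin 7} (T : TModel S t)

theorem top_ok : ∀ t : Fin 7, t ≠ 0 → ((Table.cert t.val).all fun e =>
    eMask e != 2 ^ 64 - 1 || (eKind e == 1 && eRank e == 3)) = true := by
  decide +kernel

namespace TModel

open scoped Classical in
/-- The parity of an element. -/
noncomputable def par (g : G) : Bool :=
  if h : ∃ i, T.a i = g then mm (Table.maxMask t.val) h.choose else true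

open scoped Classical in
/-- The index of an element. -/
noncomputable def idx (g : G) : Fin 64 := if h : ∃ i, T.a i = g then h.choose else 0

theorem a_zero : T.a 0 = 1 := by
  have h := T.mul 0 0
  rw [(tMul_zero (t := t) 0).1] at h
  exact left_eq_mul.1 h

theorem a_mem (i : Fin 64) : T.a i ∈ S := (T.mem_iff _).2 ⟨i, rfl⟩

theorem idx_a (i : Fin 64) : T.idx (T.a i) = i := by
  have h : ∃ j, T.a j = T.a i := ⟨i, rfl⟩
  rw [idx, dif_pos h]
  exact T.inj h.choose_spec

theorem a_idx {g : G} (hg : g ∈ S) : T.a (T.idx g) = g := by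
  have h := (T.mem_iff g).1 hg
  rw [idx, dif_pos h]
  exact h.choose_spec

theorem idx_mul {x y : G} (hx : x ∈ S) (hy : y ∈ S) : T.idx (x * y) = tMul t (T.idx x) (T.idx y) := by
  conv_lhs => rw [← T.a_idx hx, ← T.a_idx hy, ← T.mul, T.idx_a]

theorem par_a (i : Fin 64) : T.par (T.a i) = mm (Table.maxMask t.val) i := by
  have h : ∃ j, T.a j = T.a i := ⟨i, rfl⟩
  rw [par, dif_pos h, T.inj h.choose_spec]

end TModel

open TModel

/-- The condition checked for the entries of positive rank. -/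
theorem rank_data (ht : t ≠ 0) {e : Entry} (he : e ∈ Table.cert t.val) :
    (∃ w, mm (eMask e) w = false ∧ ∀ q, mm (eMask e) q = true → tMul t w q = tMul t q w) ∨
    ∃ (k : ℕ) (hk : 0 < k) (C : List (Fin k → Fin k)),
      HasLin hk C ∧ (∀ a b : Fin k, (xr hk a b = a ↔ b.val = 0) ∧ (xr hk a a).val = 0) ∧
        chkKind t (Table.maxMask t.val) (eMask e) (eKind e) hk (eLab e k hk) C = true ∧
        ((k = 2) ∨ (k = 4) ∨ (k = 8)) := by
  have h := List.all_eq_true.1 (entries_ok t ht) e he
  obtain ⟨x2, x4, x8⟩ := xr_facts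
  unfold chkEntry at h
  split at h
  · rw [Bool.and_eq_true, Bool.not_eq_true', List.all_eq_true] at h
    exact Or.inl ⟨eWit e, h.1, fun q hq => beq_iff_eq.1 (h.2 q (mem_membL.2 hq))⟩
  · exact Or.inr ⟨2, _, _, hasLin_two, x2, h, Or.inl rfl⟩
  · exact Or.inr ⟨4, _, _, hasLin_four, x4, h, Or.inr (Or.inl rfl)⟩
  · exact Or.inr ⟨8, _, _, hasLin_eight, x8, h, Or.inr (Or.inr rfl)⟩

/-- A group of label maps of order four times odd has a normal 2-subgroup. -/
theorem exists_normal_two_small {k : ℕ} (hk : 0 < k) (hk4 : 4 ≤ k) (hk' : k = 2 ∨ k = 4 ∨ k = 8)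
    (A : Subgroup (Equiv.Perm (Fin k))) (hlin : ∀ x ∈ A, IsLin hk ⇑x) {j : ℕ} (hj : Odd j)
    (hcard : Nat.card A = 4 * j) : ∃ Y : Subgroup A, Y.Normal ∧ IsPGroup 2 Y ∧ Y ≠ ⊥ := by
  classical
  rcases hk' with rfl | rfl | rfl
  · omega
  · have h6 : (Finset.univ.filter fun σ : Equiv.Perm (Fin 4) => σ 0 = 0).card = 6 := by decide +kernel
    have hle : Nat.card A ≤ 6 := by
      rw [← h6, Nat.card_eq_fintype_card, Fintype.card_subtype]
      refine Finset.card_le_card fun x hx => Finset.mem_filter.2 ⟨Finset.mem_univ x, ?_⟩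
      have h := hlin x (Finset.mem_filter.1 hx).2 0 0
      have hs : ∀ a : Fin 4, xr hk a a = 0 := fun a => Fin.ext ((xr_facts.2.1 a a).2)
      rwa [hs, hs] at h
    have hj1 : j = 1 := by rcases hj with ⟨i, rfl⟩; omega
    refine ⟨⊤, inferInstance, IsPGroup.of_card (n := 2) (by rw [Nat.card_congr topEquiv.toEquiv, hcard, hj1]; rfl),
      fun h => ?_⟩
    have h' : Nat.card (⊤ : Subgroup A) = 1 := by rw [h, card_bot]
    rw [Nat.card_congr topEquiv.toEquiv, hcard] at h'
    omega
  · exact exists_normal_two A.subtype A.subtype_injective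
      (fun x => ⟨_, _, _, (hlin x.1 x.2).eq_lin3⟩) hj hcard

variable [Finite G]

/-- The local condition at a subgroup. -/
theorem local_par {P : Sylow 2 G} (T : TModel (P : Subgroup G) t) (ht : t ≠ 0) {Q : Subgroup G}
    (hQP : Q ≤ (P : Subgroup G)) (h16 : T.a 16 ∈ Q)
    (hcent : ∀ s ∈ (P : Subgroup G), (∀ q ∈ Q, s * q = q * s) → s ∈ Q)
    (hloc : Q = (P : Subgroup G) ∨ (Q < (P : Subgroup G) ∧ FullyNormalized P Q ∧ Radical P Q))
    {g : G} (hg : g ∈ normalizer (Q : Set G)) {x : G} (hx : x ∈ Q) :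
    T.par (g * x * g⁻¹) = T.par x := by
  classical
  haveI : Fact (Nat.Prime 2) := ⟨Nat.prime_two⟩
  set M := Table.maxMask t.val with hM
  set J : Fin 64 → Prop := fun i => T.a i ∈ Q with hJdef
  have hgQ : ∀ {h : G}, h ∈ normalizer (Q : Set G) → ∀ {q : G}, q ∈ Q → h * q * h⁻¹ ∈ Q :=
    fun hh q hq => (mem_normalizer_iff.1 hh q).1 hq
  have hidx : ∀ {q : G}, q ∈ Q → T.a (T.idx q) = q := fun hq => T.a_idx (hQP hq)
  by_cases hin : ∀ i, J i → mm M i = true
  · have hall : ∀ {q : G}, q ∈ Q → T.par q = true := fun {q} hq => by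
      rw [← hidx hq, T.par_a]
      exact hin _ (show _ ∈ Q by rwa [hidx hq])
    rw [hall hx, hall (hgQ hg hx)]
  push Not at hin
  obtain ⟨x0, hx0, hx0M⟩ := hin
  obtain ⟨e, heL, hmask⟩ := exists_entry ht (J := J)
    (fun i j hi hj => by show _ ∈ Q; rw [T.mul]; exact mul_mem hi hj)
    (by show _ ∈ Q; rw [T.a_zero]; exact one_mem Q) h16
    ⟨x0, hx0, Bool.eq_false_iff.2 hx0M⟩
  set K := eMask e with hK
  have hmemQ : ∀ {q : G}, q ∈ Q → mm K (T.idx q) = true := fun hq => (hmask _).2 (show _ ∈ Q by rwa [hidx hq])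
  obtain ⟨w, hw, hwc⟩ | ⟨k, hk, C, hC, hxr, hchk, hk'⟩ := rank_data ht heL
  · refine absurd ((hmask w).2 (hcent _ (T.a_mem w) fun q hq => ?_)) (by rw [hw]; exact Bool.false_ne_true)
    rw [← hidx hq, ← T.mul, ← T.mul, hwc _ (hmemQ hq)]
  -- the labelling
  rw [chkKind, Bool.and_eq_true] at hchk
  obtain ⟨hlab, hkind⟩ := hchk
  simp only [chkLab, Bool.and_eq_true, Bool.or_eq_true, List.all_eq_true, List.any_eq_true,
    List.mem_finRange, forall_const, beq_iff_eq, mem_membL, Bool.not_eq_true', beq_eq_false_iff_ne] at hlab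
  obtain ⟨⟨⟨hsurj, hmul⟩, hsq⟩, hlab0⟩ := hlab
  set lab := eLab e k hk with hlabdef
  have hval : ∀ {a : Fin k}, a.val = 0 ↔ a = lab 0 := fun {a} =>
    ⟨fun h => Fin.ext (h.trans hlab0.symm), fun h => h ▸ hlab0⟩
  let Λ : Labels Q k :=
    { lab := fun g => lab (T.idx g)
      coset := fun q hq x hx => by
        rw [T.idx_mul (hQP hq) (hQP hx), hmul _ (hmemQ hq) _ (hmemQ hx), (hxr _ _).1, ← T.a_zero,
          T.idx_a, hval]
      surj := fun v => by
        obtain ⟨i, hi, hv⟩ := hsurj v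
        exact ⟨T.a i, (hmask i).1 hi, by rw [T.idx_a]; exact hv⟩
      sq := fun q hq => by
        rw [T.idx_mul (hQP hq) (hQP hq), hmul _ (hmemQ hq) _ (hmemQ hq), ← T.a_zero, T.idx_a, ← hval]
        exact (hxr _ (lab 0)).2
      gen := fun x hx h => by
        rw [← T.a_zero, T.idx_a] at h
        obtain h' | ⟨a, ha, b, hb, hab⟩ := hsq _ (hmemQ hx)
        · exact absurd (hval.2 h) h'
        rw [← hidx hx, ← hab, T.mul, T.mul, T.mul]
        exact mul_mem (subset_closure ⟨_, (hmask a).1 ha, rfl⟩) (subset_closure ⟨_, (hmask b).1 hb, rfl⟩) }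
  have happ : ∀ (h : normalizer (Q : Set G)) {q : G}, q ∈ Q →
      Λ.hom h (lab (T.idx q)) = lab (T.idx ((h : G) * q * (h : G)⁻¹)) := fun h _ hq => Λ.hom_apply hq
  have hlinh : ∀ h : normalizer (Q : Set G), IsLin hk ⇑(Λ.hom h) := by
    intro h u v
    obtain ⟨p, hp, rfl⟩ := Λ.surj u
    obtain ⟨q, hq, rfl⟩ := Λ.surj v
    show Λ.hom h (xr hk (lab (T.idx p)) (lab (T.idx q))) =
      xr hk (Λ.hom h (lab (T.idx p))) (Λ.hom h (lab (T.idx q)))
    rw [← hmul _ (hmemQ hp) _ (hmemQ hq), ← T.idx_mul (hQP hp) (hQP hq), happ h hp, happ h hq,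
      happ h (mul_mem hp hq), ← hmul _ (hmemQ (hgQ h.2 hp)) _ (hmemQ (hgQ h.2 hq)),
      ← T.idx_mul (hQP (hgQ h.2 hp)) (hQP (hgQ h.2 hq))]
    congr 2
    group
  have hok : ∀ h : normalizer (Q : Set G), ⇑(Λ.hom h) ∈ okMaps t K lab C := by
    intro h
    rw [okMaps, List.mem_filter]
    refine ⟨hC _ (injf_of (Λ.hom h).injective) (hlinh h), ?_⟩
    let p : Fin 64 → Fin 64 := fun i => bif mm K i then T.idx ((h : G) * T.a i * (h : G)⁻¹) else i
    have hpm : ∀ i, mm K (p i) = mm K i := fun i => by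
      show mm K (bif mm K i then T.idx ((h : G) * T.a i * (h : G)⁻¹) else i) = mm K i
      cases hi : mm K i
      · exact hi
      · exact hmemQ (hgQ h.2 ((hmask i).1 hi))
    have hp : ∀ {i}, mm K i = true → T.a (p i) = (h : G) * T.a i * (h : G)⁻¹ := fun {i} hi => by
      show T.a (bif mm K i then T.idx ((h : G) * T.a i * (h : G)⁻¹) else i) = _
      rw [hi]
      exact hidx (hgQ h.2 ((hmask i).1 hi))
    have hpinj : Function.Injective p := fun i j hij => by
      have hmm := hpm i
      rw [hij, hpm j] at hmm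
      cases hi : mm K i
      · have hj : mm K j = false := hmm.trans hi
        have e1 : p i = i := by show (bif mm K i then _ else i) = i; rw [hi]; rfl
        have e2 : p j = j := by show (bif mm K j then _ else j) = j; rw [hj]; rfl
        rw [← e1, hij, e2]
      · have h1 := hp hi
        rw [hij, hp (hmm.trans hi)] at h1
        exact T.inj (mul_left_cancel (mul_right_cancel h1)).symm
    have hc : ∀ i j, mm K i = true → mm K j = true → mm K (tMul t i j) = true := fun i j hi hj => by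
      refine (hmask _).2 ?_
      show _ ∈ Q
      rw [T.mul]; exact mul_mem ((hmask i).1 hi) ((hmask j).1 hj)
    have h0K : mm K 0 = true := (hmask 0).2 (by show _ ∈ Q; rw [T.a_zero]; exact one_mem Q)
    have hpmul : ∀ i j, mm K i = true → mm K j = true → p (tMul t i j) = tMul t (p i) (p j) := by
      intro i j hi hj
      refine T.inj ?_
      rw [hp (hc i j hi hj), T.mul, T.mul, hp hi, hp hj]
      group
    have hp0 : p 0 = 0 := T.inj (by rw [hp h0K, T.a_zero]; group)
    have hplab : ∀ i, mm K i = true → lab (p i) = Λ.hom h (lab i) := fun i hi => by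
      have := happ h ((hmask i).1 hi)
      rw [T.idx_a] at this
      rw [this, ← hp hi, T.idx_a]
    rw [List.all_eq_true]
    intro v _
    rw [beq_iff_eq, List.getD_eq_getElem _ _ (by simp), List.getD_eq_getElem _ _ (by simp),
      List.getElem_map, List.getElem_map, List.getElem_finRange, List.getElem_finRange]
    simp only [Fin.cast_mk, Fin.eta]
    exact sigv_perm (Equiv.ofBijective p (Finite.injective_iff_bijective.1 hpinj)) _
      (Λ.hom h).injective hpm hc hpmul hp0 hplab v
  by_cases hone : eKind e = 1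
  · rw [if_pos hone, Bool.and_eq_true] at hkind
    obtain ⟨-, hkeep⟩ := hkind
    simp only [List.all_eq_true, mem_membL, Bool.or_eq_true, Bool.not_eq_true', beq_eq_false_iff_ne,
      beq_iff_eq] at hkeep
    have h := happ ⟨g, hg⟩ hx
    have hgx := hgQ hg hx
    obtain h' | h' := hkeep _ (hok ⟨g, hg⟩) _ (hmemQ hx) _ (hmemQ hgx)
    · exact absurd h h'
    rw [← hidx hx, T.par_a, hidx hx, ← hidx hgx, T.par_a, h']
  obtain rfl | ⟨hlt, hfn, hrad⟩ := hloc
  · exfalso
    have htop : eMask e != 2 ^ 64 - 1 || (eKind e == 1 && eRank e == 3) := List.all_eq_true.1 (top_ok t ht) e heL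
    rw [Bool.or_eq_true, Bool.and_eq_true, beq_iff_eq, bne_iff_ne] at htop
    rcases htop with h | ⟨h, -⟩
    · refine h (Nat.eq_of_testBit_eq fun i => ?_)
      rw [Nat.testBit_two_pow_sub_one]
      by_cases hi : i < 64
      · rw [decide_eq_true hi]
        exact (hmask ⟨i, hi⟩).2 (T.a_mem _)
      · rw [decide_eq_false hi]
        have hsmall : ∀ e' ∈ Table.cert t.val, eMask e' < 2 ^ 64 := by
          have : ∀ t : Fin 7, ((Table.cert t.val).all fun e' => decide (eMask e' < 2 ^ 64)) = true := by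
            decide +kernel
          exact fun e' he' => of_decide_eq_true (List.all_eq_true.1 (this t) e' he')
        exact Nat.testBit_lt_two_pow ((hsmall e heL).trans_le (Nat.pow_le_pow_right (by norm_num) (not_lt.1 hi)))
    · exact hone h
  exfalso
  obtain ⟨hnorm, j, hj, hcard⟩ := Λ.radical_image hfn hrad
  set N := (P : Subgroup G) ⊓ normalizer (Q : Set G) with hN
  have hgrow : Nat.card Q < Nat.card N := by
    refine lt_of_le_of_ne (Nat.le_of_dvd Nat.card_pos (card_dvd_of_le (le_inf hQP le_normalizer))) fun he => ?_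
    have hQN : Q = N := eq_of_le_of_card_ge (le_inf hQP le_normalizer) he.ge
    haveI : Group.IsNilpotent (P : Subgroup G) := P.2.isNilpotent
    have hlt' : Q.subgroupOf (P : Subgroup G) < ⊤ := lt_top_iff_ne_top.2 fun h =>
      hlt.not_ge (subgroupOf_eq_top.1 h)
    obtain ⟨p, hp, hnot⟩ := SetLike.exists_of_lt (normalizerCondition_of_isNilpotent _ hlt')
    refine hnot (mem_subgroupOf.2 (hQN.symm ▸ ⟨p.2, ?_⟩ : (p : G) ∈ Q))
    show (p : G) ∈ normalizer (Q : Set G)
    rw [mem_normalizer_iff'] at hp ⊢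
    intro y
    constructor
    · intro hy
      have hyP : y ∈ (P : Subgroup G) := by
        have := mul_mem (hQP hy) (inv_mem p.2)
        rwa [mul_inv_cancel_right] at this
      exact (hp ⟨y, hyP⟩).1 hy
    · intro hy
      have hyP : y ∈ (P : Subgroup G) := by
        have := mul_mem (inv_mem p.2) (hQP hy)
        rwa [inv_mul_cancel_left] at this
      exact (hp ⟨y, hyP⟩).2 hy
  have hA : ∀ x ∈ Λ.hom.range, IsLin hk ⇑x ∧ ⇑x ∈ okMaps t K lab C := by
    rintro _ ⟨h, rfl⟩; exact ⟨hlinh h, hok h⟩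
  rw [if_neg hone] at hkind
  by_cases htwo : eKind e = 2
  · rw [if_pos htwo] at hkind
    simp only [List.all_eq_true, Bool.or_eq_true, Bool.not_eq_true'] at hkind
    have hpg : IsPGroup 2 Λ.hom.range := by
      refine IsPGroup.iff_card.2 ?_
      refine ⟨_, Nat.eq_prime_pow_of_unique_prime_dvd Nat.card_pos.ne' fun {p} hp hpd => ?_⟩
      haveI : Fact p.Prime := ⟨hp⟩
      by_contra hp2
      have hple : p ≤ k := by
        have h := hpd.trans (card_subgroup_dvd_card Λ.hom.range)
        rw [Nat.card_perm, Nat.card_fin] at h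
        exact (Nat.Prime.dvd_factorial hp).1 h
      have hp357 : p ∈ ([3, 5, 7] : List ℕ) := by
        have := hp.two_le
        have hk8 : k ≤ 8 := by omega
        have : p ≤ 8 := hple.trans hk8
        interval_cases p <;> first | omega | (revert hp; norm_num; done) | simp
      obtain ⟨⟨σ, hσ⟩, ho⟩ := exists_prime_orderOf_dvd_card' (G := Λ.hom.range) p hpd
      rw [orderOf_mk] at ho
      rcases hkind _ (hA σ hσ).2 p hp357 with h | h
      · rw [← Bool.not_eq_true, eqf_iff, itf_perm, ← ho, pow_orderOf_eq_one] at h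
        exact h rfl
      · rw [eqf_iff] at h
        have : σ = 1 := Equiv.coe_fn_injective h
        rw [this, orderOf_one] at ho
        exact hp.ne_one ho.symm
    have h := hnorm ⊤ inferInstance (hpg.of_equiv topEquiv.symm)
    have h1 : Nat.card Λ.hom.range = 1 := by
      rw [← Nat.card_congr (topEquiv (G := Λ.hom.range)).toEquiv, h, card_bot]
    rw [h1, one_mul] at hcard
    nlinarith [hj.pos]
  rw [if_neg htwo, Bool.and_eq_true, decide_eq_true_iff, beq_iff_eq] at hkind
  obtain ⟨hk4, hcount⟩ := hkind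
  have hQcard : Nat.card Q = (membL K).length := by
    rw [← List.toFinset_card_of_nodup (show (membL K).Nodup from (List.nodup_finRange 64).filter _), ← Nat.card_eq_finsetCard]
    refine Nat.card_congr
      ⟨fun q => ⟨T.idx q, List.mem_toFinset.2 (mem_membL.2 (hmemQ q.2))⟩,
       fun i => ⟨T.a i, (hmask i).1 (mem_membL.1 (List.mem_toFinset.1 i.2))⟩,
       fun q => Subtype.ext (hidx q.2), fun i => Subtype.ext (T.idx_a i)⟩
  have hnrm : ∀ i, nrm t K i = true ↔ T.a i ∈ normalizer (Q : Set G) := by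
    intro i
    rw [nrm, List.all_eq_true]
    constructor
    · intro h
      refine le_normalizer_of_conj_mem fun q hq => ?_
      obtain h0 | ⟨x, hxm, hxe⟩ := (mm_fold (fun x => tMul t x i) _ _ 0).1 (h _ (mem_membL.2 (hmemQ hq)))
      · rw [mm_zero] at h0; exact absurd h0 Bool.false_ne_true
      have e := congrArg T.a hxe
      rw [T.mul, T.mul, hidx hq] at e
      rw [← e, mul_inv_cancel_right]
      exact (hmask x).1 (mem_membL.1 hxm)
    · intro h q hq
      have hq' := hgQ h ((hmask q).1 (mem_membL.1 hq))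
      refine (mm_fold (fun x => tMul t x i) _ _ 0).2 (Or.inr ⟨_, mem_membL.2 (hmemQ hq'), T.inj ?_⟩)
      rw [T.mul, hidx hq', T.mul, inv_mul_cancel_right]
  have hNcard : Nat.card N = ((List.finRange 64).filter (nrm t K)).length := by
    rw [← List.toFinset_card_of_nodup (show ((List.finRange 64).filter (nrm t K)).Nodup from (List.nodup_finRange 64).filter _),
      ← Nat.card_eq_finsetCard]
    refine Nat.card_congr
      ⟨fun n => ⟨T.idx n, List.mem_toFinset.2 (List.mem_filter.2 ⟨List.mem_finRange _,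
          (hnrm _).2 (by rw [T.a_idx n.2.1]; exact n.2.2)⟩)⟩,
       fun i => ⟨T.a i, T.a_mem _, (hnrm _).1 (List.mem_filter.1 (List.mem_toFinset.1 i.2)).2⟩,
       fun n => Subtype.ext (T.a_idx n.2.1), fun i => Subtype.ext (T.idx_a i)⟩
  rw [hNcard, hcount, ← hQcard] at hcard
  have hcard' : Nat.card Λ.hom.range = 4 * j :=
    Nat.eq_of_mul_eq_mul_right Nat.card_pos (by rw [hcard]; ring)
  obtain ⟨Y, hY, hY2, hne⟩ := exists_normal_two_small hk hk4 hk' Λ.hom.range (fun x hx => (hA x hx).1) hj hcard'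
  exact hne (hnorm Y hY hY2)

/-- The sign of a parity. -/
def sgn (b : Bool) : Multiplicative (ZMod 2) := bif b then 1 else Multiplicative.ofAdd 1

theorem sgn_facts : (∀ a b : Bool, sgn (a == b) = sgn a * sgn b) ∧ sgn true = 1 ∧ sgn false * sgn false = 1 ∧
    sgn false ≠ 1 := by decide +kernel

/-- A non-abelian simple group has no Sylow 2-subgroup with one of the tables `1`, ..., `6`. -/
theorem tmodel_zero [IsSimpleGroup G] (hna : ¬ IsMulCommutative G) (P : Sylow 2 G)
    (T : TModel (P : Subgroup G) t) : t = 0 := by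
  classical
  haveI : Fact (Nat.Prime 2) := ⟨Nat.prime_two⟩
  by_contra ht
  have hmax := max_ok t ht
  simp only [chkMax, Bool.and_eq_true, List.all_eq_true, List.any_eq_true, List.mem_finRange, forall_const,
    beq_iff_eq, Bool.not_eq_true', true_and] at hmax
  obtain ⟨⟨⟨h0, i0, hi0⟩, hhom⟩, hz⟩ := hmax
  have h16 : ∀ {Q : Subgroup G}, (∀ s ∈ (P : Subgroup G), (∀ q ∈ Q, s * q = q * s) → s ∈ Q) →
      Q ≤ (P : Subgroup G) → T.a 16 ∈ Q := fun hc hQP => hc _ (T.a_mem _) fun q hq => by
    rw [← T.a_idx (hQP hq), ← T.mul, ← T.mul, hz]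
  have hinv : ∀ (x g : G), x ∈ (P : Subgroup G) → g * x * g⁻¹ ∈ (P : Subgroup G) →
      T.par x = T.par (g * x * g⁻¹) := fun x g hx hg =>
    moves_of_local P (fun a b => T.par a = T.par b) (fun _ => rfl) (fun _ _ _ => Eq.trans)
      (fun g hg x hx => (local_par T ht le_rfl (T.a_mem 16) (fun s hs _ => hs) (Or.inl rfl) hg hx).symm)
      (fun Q hQ hfn hc hrad g hg s hs a ha =>
        (local_par T ht hQ.le (h16 hc hQ.le) hc (Or.inr ⟨hQ, hfn, hrad⟩)
          (mul_mem (mul_mem hg hs.2) (inv_mem hg)) ha).symm) hx hg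
  let χ : (P : Subgroup G) →* Multiplicative (ZMod 2) :=
    { toFun := fun x => sgn (T.par x)
      map_one' := by rw [OneMemClass.coe_one, ← T.a_zero, T.par_a, h0, sgn_facts.2.1]
      map_mul' := fun x y => by
        rw [coe_mul, ← T.a_idx x.2, ← T.a_idx y.2, ← T.mul, T.par_a, T.par_a, T.par_a, hhom, sgn_facts.1] }
  obtain ⟨τ, hτ⟩ := Cfsg.Lib.TwoGroup.FusionInvariant.exists_transfer P χ fun x g h =>
    congrArg sgn (hinv x g x.2 h).symm
  rcases τ.normal_ker.eq_bot_or_eq_top with hk | hk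
  · refine hna ⟨⟨fun a b => (MonoidHom.ker_eq_bot_iff τ).1 hk ?_⟩⟩
    rw [map_mul, map_mul, mul_comm]
  · have h1 : τ (T.a i0) = 1 := MonoidHom.mem_ker.1 (hk ▸ mem_top (T.a i0))
    rw [hτ ⟨T.a i0, T.a_mem i0⟩] at h1
    have hχ : χ ⟨T.a i0, T.a_mem i0⟩ = sgn false := by
      show sgn (T.par (T.a i0)) = _
      rw [T.par_a, hi0]
    obtain ⟨i, hi⟩ : Odd (P : Subgroup G).index := Nat.odd_iff.2 (Nat.two_dvd_ne_zero.1 P.not_dvd_index)
    rw [hχ, hi, pow_succ, pow_mul, sq, sgn_facts.2.2.1, one_pow, one_mul] at h1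
    exact sgn_facts.2.2.2 h1

end Cfsg.Lib.MTwelveEight
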