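import Cfsg.Agent.Lib.MTwelveEight.Target

/-!
A Sylow 2-subgroup of order 64 of a non-abelian simple group with a self-centralising element of order 8
conjugate to its odd powers is of M12 type.
-/

set_option autoImplicit false

namespace Cfsg.Lib.MTwelveEight

universe u

variable {G : Type u} [Group G] [Finite G]

theorem sylow_type [IsSimpleGroup G] (hna : ¬ IsMulCommutative G) (P : Sylow 2 G)
    (hP : Nat.card (P : Subgroup G) = 64) {f : G} (hfP : f ∈ (P : Subgroup G)) (hf : orderOf f = 8)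
    (hself : ∀ x ∈ (P : Subgroup G), x * f = f * x → x ∈ Subgroup.zpowers f)
    (hodd : ∀ k ∈ ({3, 5, 7} : Set ℕ), ∃ x ∈ (P : Subgroup G), x * f * x⁻¹ = f ^ k) (Q : Sylow 2 Spor.M12) :
    Nonempty (↥(P : Subgroup G) ≃* ↥(Q : Subgroup Spor.M12)) := by
  obtain ⟨t, ⟨T⟩⟩ := exists_model hP hfP hf hself hodd
  obtain rfl := tmodel_zero hna P T
  exact nonempty_equiv_sylow T Q

end Cfsg.Lib.MTwelveEight
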