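import Cfsg.Agent.Lib.MTwelveEight.Table
import Mathlib

/-!
The seven table groups of order 64 and the arithmetic of the extensions of an element of order 8
by its automorphisms.
-/

set_option autoImplicit false
set_option linter.style.longLine false
set_option maxRecDepth 100000

namespace Cfsg.Lib.MTwelveEight

/-- A byte of a packed list as an index. -/
def at6 (p i : ℕ) : Fin 64 := ⟨((p >>> (8 * i)) &&& 255) % 64, Nat.mod_lt _ (by norm_num)⟩

/-- The product in table `t`. -/
def tMul (t : Fin 7) (i j : Fin 64) : Fin 64 := at6 (Table.row t i) j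

/-- The four generators. -/
def gIdx : Fin 4 → Fin 64 := ![4, 1, 2, 32]

/-- The index of `f ^ a * x ^ j * y ^ k`. -/
def enc (a j k : ℕ) : Fin 32 := ⟨(4 * (a % 8) + j % 2 + 2 * (k % 2)) % 32, Nat.mod_lt _ (by norm_num)⟩

/-- The product of two indices in the extension with `(x * y) ^ 2 = f ^ (4 * c)`. -/
def nMul (c : Fin 2) (i l : Fin 32) : Fin 32 :=
  let j := i.val % 2
  let k := i.val / 2 % 2
  let j' := l.val % 2
  let k' := l.val / 2 % 2
  enc (i.val / 4 + 3 ^ j * 5 ^ k * (l.val / 4) + 4 * c.val * (k * j')) (j + j') (k + k')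

/-- A power. -/
def nPow (c : Fin 2) (i : Fin 32) : ℕ → Fin 32
  | 0 => 0
  | n + 1 => nMul c i (nPow c i n)

/-- The image of an index under the map with the given images of the generators. -/
def nAl (c : Fin 2) (af ax ay w : Fin 32) : Fin 32 :=
  nMul c (nMul c (nPow c af (w.val / 4)) (nPow c ax (w.val % 2))) (nPow c ay (w.val / 2 % 2))

/-- The conjugate of `i` by `n`, as an equation. -/
def nConjEq (c : Fin 2) (n i v : Fin 32) : Bool := nMul c v n == nMul c n i

/-- The necessary conditions on the first image. -/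
def cF (c : Fin 2) (af : Fin 32) : Bool := af.val % 4 != 0 && nPow c af 8 == 0

/-- The necessary conditions on the second image. -/
def cX (c : Fin 2) (af ax : Fin 32) : Bool := nMul c ax ax == 0 && nMul c (nMul c ax af) ax == nPow c af 3

/-- The necessary conditions on the third image. -/
def cY (c : Fin 2) (af ax ay : Fin 32) : Bool :=
  nMul c ay ay == 0 && nMul c (nMul c ay af) ay == nPow c af 5 &&
    nMul c (nMul c ax ay) (nMul c ax ay) == nPow c af (4 * c.val)

/-- The necessary conditions on the square of the outer element. -/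
def cN (c : Fin 2) (af ax ay n : Fin 32) : Bool :=
  nAl c af ax ay n == n && nConjEq c n 4 (nAl c af ax ay af) && nConjEq c n 1 (nAl c af ax ay ax) &&
    nConjEq c n 2 (nAl c af ax ay ay)

/-- The code of an extension. -/
def code (c : Fin 2) (af ax ay n : Fin 32) : ℕ := (((c.val * 32 + af.val) * 32 + ax.val) * 32 + ay.val) * 32 + n.val

/-- The element with number `m` in the normal subgroup and `l` outside. -/
def mk64 (m : Fin 32) (l : Bool) : Fin 64 := ⟨m.val + (bif l then 32 else 0), by
  cases l <;> simp only [cond_true, cond_false] <;> omega⟩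

/-- The right product with a generator in the extension. -/
def next (c : Fin 2) (af ax ay n : Fin 32) (g : Fin 4) (i : Fin 64) : Fin 64 :=
  let m : Fin 32 := ⟨i.val % 32, Nat.mod_lt _ (by norm_num)⟩
  bif Nat.blt i.val 32 then
    match g with
    | 0 => mk64 (nMul c m 4) false
    | 1 => mk64 (nMul c m 1) false
    | 2 => mk64 (nMul c m 2) false
    | _ => mk64 m true
  else
    match g with
    | 0 => mk64 (nMul c m af) true
    | 1 => mk64 (nMul c m ax) true
    | 2 => mk64 (nMul c m ay) true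
    | _ => mk64 (nMul c m n) false

/-- The code read backwards. -/
def decode (z : ℕ) : Fin 2 × Fin 32 × Fin 32 × Fin 32 × Fin 32 :=
  (⟨z / 32 ^ 4 % 2, Nat.mod_lt _ (by norm_num)⟩, ⟨z / 32 ^ 3 % 32, Nat.mod_lt _ (by norm_num)⟩,
    ⟨z / 32 ^ 2 % 32, Nat.mod_lt _ (by norm_num)⟩, ⟨z / 32 % 32, Nat.mod_lt _ (by norm_num)⟩,
    ⟨z % 32, Nat.mod_lt _ (by norm_num)⟩)

theorem table_facts : ∀ t : Fin 7, (∀ i : Fin 64, tMul t i 0 = i ∧ tMul t 0 i = i) ∧
    (∀ i l : Fin 64, ∀ g : Fin 4, tMul t (tMul t i l) (gIdx g) = tMul t i (tMul t l (gIdx g))) ∧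
    (∀ i : Fin 64, i ≠ 0 → ∃ g : Fin 4, ∃ l : Fin 64, (l : ℕ) < i ∧ tMul t l (gIdx g) = i) := by
  decide +kernel

theorem n_facts : ∀ c : Fin 2, (∀ i : Fin 32, nMul c i 0 = i ∧ nMul c 0 i = i) ∧
    (∀ i l : Fin 32, ∀ g ∈ ([4, 1, 2] : List (Fin 32)), nMul c (nMul c i l) g = nMul c i (nMul c l g)) ∧
    (∀ i : Fin 32, i ≠ 0 → ∃ g ∈ ([4, 1, 2] : List (Fin 32)), ∃ l : Fin 32, (l : ℕ) < i ∧ nMul c l g = i) := by
  decide +kernel

theorem params_complete : ∀ c : Fin 2, (List.finRange 32).all (fun af => !cF c af ||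
    (List.finRange 32).all fun ax => !cX c af ax ||
      (List.finRange 32).all fun ay => !cY c af ax ay ||
        (List.finRange 32).all fun n => !cN c af ax ay n ||
          Table.params.any fun p => p.1 == code c af ax ay n) = true := by
  decide +kernel

theorem params_ok : Table.params.all (fun p =>
    let q := decide (p.2.1 < 7)
    let d := decode p.1
    let σ := at6 p.2.2
    let t : Fin 7 := ⟨p.2.1 % 7, Nat.mod_lt _ (by norm_num)⟩
    q && (σ (0 : Fin 64) == 0) && ((List.finRange 4).all fun g => σ (gIdx g) == σ (next d.1 d.2.1 d.2.2.1 d.2.2.2.1 d.2.2.2.2 g 0)) &&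
      ((List.finRange 64).all fun i => (List.finRange 4).all fun g =>
        σ (next d.1 d.2.1 d.2.2.1 d.2.2.2.1 d.2.2.2.2 g i) == tMul t (σ (i : Fin 64)) (σ (gIdx g))) &&
      ((List.finRange 64).foldl (fun s i => s ||| (1 <<< (σ (i : Fin 64) : ℕ))) 0 == 2 ^ 64 - 1)) = true := by
  decide +kernel

end Cfsg.Lib.MTwelveEight
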