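import Cfsg.Agent.Lib.MTwelveEight.Exclude
import Cfsg.Agent.Lib.MTwelveRecog.Setup

/-!
The first table is that of a Sylow 2-subgroup of M12.
-/

set_option autoImplicit false
set_option linter.style.longLine false
set_option linter.style.haveILetI false
set_option maxRecDepth 100000

namespace Cfsg.Lib.MTwelveEight

open Subgroup Cfsg.Lib.MTwelveRecog

universe u

/-- The index in the Sylow subgroup of the table group of M12 of an index of the first table. -/
def sigma (i : Fin 64) : Fin 192 :=
  ⟨Cfsg.Lib.MTwelveRecog.byteAt 4524794467776653423904884568391519377465435770105639568664260429437877052598585684814656800116700064168124688647995563979509028937512488467019442485476608 i.val % 192,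
    Nat.mod_lt _ (by norm_num)⟩

theorem sigma_facts : (∀ i : Fin 64, inSyl (sigma i) = true) ∧
    (∀ i j : Fin 64, sigma (tMul 0 i j) = cMul (sigma i) (sigma j)) ∧
    (∀ i j : Fin 64, sigma i = sigma j → i = j) := by
  refine ⟨?_, ?_, ?_⟩ <;> decide +kernel

/-- A group with the first table is a Sylow 2-subgroup of M12. -/
theorem nonempty_equiv_sylow {G : Type u} [Group G] {S : Subgroup G} (T : TModel S 0)
    (Q : Sylow 2 Spor.M12) : Nonempty (S ≃* ↥(Q : Subgroup Spor.M12)) := by
  classical
  haveI : Fact (Nat.Prime 2) := ⟨Nat.prime_two⟩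
  obtain ⟨hin, hmul, hinj⟩ := sigma_facts
  let F : S → sylStd := fun x => ⟨⟨el (sigma (T.idx x)), el_mem _⟩, _, hin _, rfl⟩
  have hFm : ∀ x y : S, F (x * y) = F x * F y := fun x y => Subtype.ext (Subtype.ext (by
    show el (sigma (T.idx ((x * y : S) : G))) = el (sigma (T.idx x)) * el (sigma (T.idx y))
    rw [coe_mul, T.idx_mul x.2 y.2, hmul, el_mul]))
  have hFi : Function.Injective F := fun x y h => by
    have h1 := hinj _ _ (el_injective (congrArg (fun s : sylStd => ((s : stdTwelve) : Equiv.Perm (Fin 12))) h))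
    exact Subtype.ext (by rw [← T.a_idx x.2, h1, T.a_idx y.2])
  let A : Fin 64 ≃ S :=
    ⟨fun i => ⟨T.a i, T.a_mem i⟩, fun x => T.idx x, fun i => T.idx_a i, fun x => Subtype.ext (T.a_idx x.2)⟩
  haveI : Finite S := Finite.of_equiv _ A
  haveI : Finite stdTwelve := inferInstance
  have hcard : Nat.card S = Nat.card sylStd := by rw [card_sylStd, ← Nat.card_congr A, Nat.card_fin]
  letI := Fintype.ofFinite S
  letI := Fintype.ofFinite sylStd
  have hFb : Function.Bijective F := (Fintype.bijective_iff_injective_and_card F).2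
    ⟨hFi, by rwa [← Nat.card_eq_fintype_card, ← Nat.card_eq_fintype_card]⟩
  let e : S ≃* sylStd := MulEquiv.mk' (Equiv.ofBijective F hFb) hFm
  obtain ⟨ι⟩ := nonempty_sporM12_std
  have h64 : Nat.card sylStd = 2 ^ (Nat.card stdTwelve).factorization 2 := by
    rw [card_sylStd, card_stdTwelve, show (95040 : ℕ) = 2 ^ 6 * 1485 by norm_num,
      Nat.factorization_mul (by norm_num) (by norm_num), Finsupp.add_apply,
      Nat.Prime.factorization_pow Nat.prime_two, Finsupp.single_eq_same,
      Nat.factorization_eq_zero_of_not_dvd (by norm_num : ¬ 2 ∣ 1485)]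
    norm_num
  let eQ : ↥(Q : Subgroup Spor.M12) ≃* ↥((Q : Subgroup Spor.M12).map ι.toMonoidHom) :=
    (Q : Subgroup Spor.M12).equivMapOfInjective ι.toMonoidHom ι.injective
  let Q' : Sylow 2 stdTwelve := Q.mapSurjective (f := ι.toMonoidHom) ι.surjective
  exact ⟨(e.trans ((Sylow.ofCard sylStd h64).equiv Q')).trans eQ.symm⟩

end Cfsg.Lib.MTwelveEight
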